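import Mathlib
import Cfsg.Prelude.Def_GeometricClasses
import Cfsg.Agent.Lib.Classical.WittQuad

set_option autoImplicit false

/-! Quadratic forms given as functions: bundling, Witt transitivity. -/

namespace Cfsg.Agent.Lib.Geo

variable {ι : Type} [Fintype ι] [DecidableEq ι] {F : Type*} [Field F]

/-- bundled version of a quadratic form given as a function. -/
noncomputable def bundleQ {Q : (ι → F) → F} (hQ : Cfsg.Geo.IsNondegenerateQuadraticForm Q) :
    QuadraticForm F (ι → F) :=
  QuadraticMap.ofPolar Q (fun a x => by rw [hQ.smul, smul_eq_mul]; ring)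
    (fun x x' y => hQ.polar_bilinear.add_left x x' y)
    (fun a x y => by simpa using hQ.polar_bilinear.smul_left a x y)

theorem bundleQ_apply {Q : (ι → F) → F} (hQ : Cfsg.Geo.IsNondegenerateQuadraticForm Q)
    (v : ι → F) : bundleQ hQ v = Q v := rfl

theorem bundleQ_polar {Q : (ι → F) → F} (hQ : Cfsg.Geo.IsNondegenerateQuadraticForm Q)
    (u v : ι → F) : QuadraticMap.polarBilin (bundleQ hQ) u v = QuadraticMap.polar Q u v := rfl

theorem bundleQ_nondeg {Q : (ι → F) → F} (hQ : Cfsg.Geo.IsNondegenerateQuadraticForm Q) :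
    (QuadraticMap.polarBilin (bundleQ hQ)).Nondegenerate := by
  constructor
  · intro x hx
    by_contra h0
    obtain ⟨y, hy⟩ := (hQ.nondegenerate x h0).2
    exact hy (hx y)
  · intro x hx
    by_contra h0
    obtain ⟨y, hy⟩ := (hQ.nondegenerate x h0).1
    exact hy (hx y)

/-- Witt transitivity: isometries are transitive on the nonzero vectors of a given value. -/
theorem exists_isometry {Q : (ι → F) → F} (hQ : Cfsg.Geo.IsNondegenerateQuadraticForm Q)
    {x y : ι → F} (hx : x ≠ 0) (hy : y ≠ 0) (hxy : Q x = Q y) :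
    ∃ g : (ι → F) ≃ₗ[F] (ι → F), (∀ v, Q (g v) = Q v) ∧ g x = y := by
  obtain ⟨g, h1, -, h3⟩ := Cfsg.Agent.Lib.Classical.Witt.core_quad (bundleQ hQ) (bundleQ_nondeg hQ) ⊥ x y
    (by simpa using hx) (by simpa using hy) (by
      intro a ha s
      rw [Submodule.mem_bot] at ha
      subst ha
      simp only [zero_add]
      show Q _ = Q _
      rw [hQ.smul, hQ.smul, hxy])
  exact ⟨g, h1, h3⟩

end Cfsg.Agent.Lib.Geo
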