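import Mathlib
import Cfsg.Prelude.Def_GeometricClasses
import Cfsg.Agent.Lib.Classical.Transvection

set_option autoImplicit false

/-! The action of `GL` on column vectors as linear automorphisms; stabilizers of subspaces, the
special linear group and transvections in these terms. -/

namespace Cfsg.Agent.Lib.Geo

open scoped MatrixGroups Matrix
open Module

variable {ι : Type} [Fintype ι] [DecidableEq ι] {F : Type*} [Field F]

/-- The action of `GL` on column vectors as linear automorphisms. -/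
noncomputable def act : GL ι F ≃* ((ι → F) ≃ₗ[F] (ι → F)) :=
  (Matrix.GeneralLinearGroup.toLin).trans (LinearMap.GeneralLinearGroup.generalLinearEquiv F _)

theorem act_apply (g : GL ι F) (v : ι → F) : act g v = (g : Matrix ι ι F) *ᵥ v := rfl

theorem act_symm_val_mulVec (e : (ι → F) ≃ₗ[F] (ι → F)) (v : ι → F) :
    ((act.symm e : GL ι F) : Matrix ι ι F) *ᵥ v = e v := by
  rw [← act_apply, MulEquiv.apply_symm_apply]

theorem act_inv_apply (g : GL ι F) (v : ι → F) : (act g).symm v = act g⁻¹ v := by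
  rw [map_inv]
  rfl

theorem mem_stab_iff {W : Submodule F (ι → F)} {g : GL ι F} :
    g ∈ Cfsg.Geo.subspaceStabilizer W ↔ ∀ v, v ∈ W ↔ act g v ∈ W := Iff.rfl

theorem det_act (g : GL ι F) : LinearMap.det ((act g : (ι → F) ≃ₗ[F] (ι → F)) : (ι → F) →ₗ[F] (ι → F))
    = Matrix.det (g : Matrix ι ι F) := by
  have : ((act g : (ι → F) ≃ₗ[F] (ι → F)) : (ι → F) →ₗ[F] (ι → F)) = Matrix.toLin' (g : Matrix ι ι F) := by
    apply LinearMap.ext
    intro v
    rw [Matrix.toLin'_apply]
    rfl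
  rw [this, LinearMap.det_toLin']

theorem mem_SL_iff {g : GL ι F} : g ∈ Cfsg.Geo.specialLinear ι F ↔
    LinearMap.det ((act g : (ι → F) ≃ₗ[F] (ι → F)) : (ι → F) →ₗ[F] (ι → F)) = 1 := by
  rw [det_act]
  show Matrix.GeneralLinearGroup.det g = 1 ↔ _
  rw [← Units.val_inj]
  rfl

/-- Transvection as an element of `GL`. -/
noncomputable def tv {φ : Dual F (ι → F)} {v : ι → F} (h : φ v = 0) : GL ι F :=
  act.symm (LinearEquiv.transvection h)

theorem act_tv {φ : Dual F (ι → F)} {v : ι → F} (h : φ v = 0) :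
    act (tv h) = LinearEquiv.transvection h := by
  simp [tv]

theorem act_tv_apply {φ : Dual F (ι → F)} {v : ι → F} (h : φ v = 0) (x : ι → F) :
    act (tv h) x = x + φ x • v := by
  rw [act_tv]; rfl

theorem tv_mem_SL {φ : Dual F (ι → F)} {v : ι → F} (h : φ v = 0) :
    tv h ∈ Cfsg.Geo.specialLinear ι F := by
  rw [mem_SL_iff, act_tv]
  show LinearMap.det (LinearMap.transvection φ v) = 1
  rw [LinearMap.transvection.det, h, add_zero]

/-- A transvection whose form vanishes on `W` stabilizes `W`. -/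
theorem tv_mem_stab_of_form {W : Submodule F (ι → F)} {φ : Dual F (ι → F)} {v : ι → F} (h : φ v = 0)
    (hW : ∀ w ∈ W, φ w = 0) : tv h ∈ Cfsg.Geo.subspaceStabilizer W := by
  intro x
  show x ∈ W ↔ act (tv h) x ∈ W
  rw [act_tv_apply]
  constructor
  · intro hx
    rw [hW x hx, zero_smul, add_zero]
    exact hx
  · intro hx
    have h1 := hW _ hx
    rw [map_add, map_smul, h, smul_zero, add_zero] at h1
    rw [h1, zero_smul, add_zero] at hx
    exact hx

/-- A transvection with center in `W` stabilizes `W`. -/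
theorem tv_mem_stab_of_center {W : Submodule F (ι → F)} {φ : Dual F (ι → F)} {v : ι → F} (h : φ v = 0)
    (hv : v ∈ W) : tv h ∈ Cfsg.Geo.subspaceStabilizer W := by
  intro x
  show x ∈ W ↔ act (tv h) x ∈ W
  rw [act_tv_apply]
  constructor
  · intro hx
    exact W.add_mem hx (W.smul_mem _ hv)
  · intro hx
    have := W.sub_mem hx (W.smul_mem (φ x) hv)
    simpa using this

/-- Existence of linear forms separating a point from a subspace. -/
theorem exists_dual_of_notMem {V : Type*} [AddCommGroup V] [Module F V] {S : Submodule F V} {u : V}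
    (hu : u ∉ S) : ∃ φ : Dual F V, φ u = 1 ∧ ∀ s ∈ S, φ s = 0 := by
  obtain ⟨f, hf, hS⟩ := Submodule.exists_dual_map_eq_bot_of_notMem hu inferInstance
  refine ⟨(f u)⁻¹ • f, ?_, fun s hs => ?_⟩
  · simp [hf]
  · have : f s = 0 := by
      have h1 : f s ∈ S.map f := ⟨s, hs, rfl⟩
      rw [hS] at h1
      exact h1
    simp [this]

/-- Conjugation formula for transvections. -/
theorem conj_tv {φ : Dual F (ι → F)} {v : ι → F} (h : φ v = 0) (g : GL ι F) :
    ∃ h' : (φ ∘ₗ ((act g⁻¹ : (ι → F) ≃ₗ[F] (ι → F)) : (ι → F) →ₗ[F] (ι → F))) (act g v) = 0,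
      g * tv h * g⁻¹ = tv h' := by
  have h' : (φ ∘ₗ ((act g⁻¹ : (ι → F) ≃ₗ[F] (ι → F)) : (ι → F) →ₗ[F] (ι → F))) (act g v) = 0 := by
    show φ (act g⁻¹ (act g v)) = 0
    rw [← act_inv_apply]
    simpa using h
  refine ⟨h', ?_⟩
  apply act.injective
  ext1 x
  simp only [map_mul, act_tv, LinearEquiv.mul_apply]
  rw [LinearEquiv.transvection.apply, LinearEquiv.transvection.apply]
  simp only [map_add, map_smul, LinearEquiv.coe_coe, LinearMap.comp_apply]
  rw [map_inv]
  have h2 : (act g) ((act g)⁻¹ x) = x := (act g).apply_symm_apply x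
  rw [h2]

/-- A proper nonzero subspace is moved by a transvection. -/
theorem exists_SL_not_stab {W : Submodule F (ι → F)} (h0 : W ≠ ⊥) (h1 : W ≠ ⊤) :
    ∃ g ∈ Cfsg.Geo.specialLinear ι F, g ∉ Cfsg.Geo.subspaceStabilizer W := by
  obtain ⟨w, hw, hw0⟩ := (Submodule.ne_bot_iff W).1 h0
  obtain ⟨v, hv⟩ : ∃ v, v ∉ W := by
    by_contra hcon
    push Not at hcon
    exact h1 (eq_top_iff.2 fun x _ => hcon x)
  have hw' : w ∉ Submodule.span F {v} := by
    intro hmem
    obtain ⟨c, rfl⟩ := Submodule.mem_span_singleton.1 hmem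
    have hc : c ≠ 0 := by
      rintro rfl
      exact hw0 (zero_smul _ _)
    exact hv ((W.smul_mem_iff hc).1 hw)
  obtain ⟨φ, hφ1, hφ2⟩ := exists_dual_of_notMem hw'
  have hφv : φ v = 0 := hφ2 v (Submodule.mem_span_singleton_self v)
  refine ⟨tv hφv, tv_mem_SL hφv, fun hmem => ?_⟩
  have h2 := ((mem_stab_iff.1 hmem) w).1 hw
  rw [act_tv_apply, hφ1, one_smul] at h2
  exact hv ((W.add_mem_iff_right hw).1 h2)

/-- A subspace `U` not contained in `W`, and `v ∉ U` or `u + v ∉ U`... : a transvection stabilizing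
`W` moving `U`. -/
theorem exists_stab_not_stab {W U : Submodule F (ι → F)} {u v : ι → F} (hu : u ∈ U) (hvU : v ∉ U)
    (huW : u ∉ W ⊔ Submodule.span F {v}) :
    ∃ g ∈ Cfsg.Geo.specialLinear ι F, g ∈ Cfsg.Geo.subspaceStabilizer W ∧
      g ∉ Cfsg.Geo.subspaceStabilizer U := by
  obtain ⟨φ, hφ1, hφ2⟩ := exists_dual_of_notMem huW
  have hφv : φ v = 0 := hφ2 v ((le_sup_right : _ ≤ W ⊔ _) (Submodule.mem_span_singleton_self v))
  refine ⟨tv hφv, tv_mem_SL hφv, tv_mem_stab_of_form hφv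
    (fun w hw => hφ2 w ((le_sup_left : _ ≤ W ⊔ _) hw)), fun hmem => ?_⟩
  have h2 := ((mem_stab_iff.1 hmem) u).1 hu
  rw [act_tv_apply, hφ1, one_smul] at h2
  exact hvU ((U.add_mem_iff_right hu).1 h2)

end Cfsg.Agent.Lib.Geo
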