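import Mathlib
import Cfsg.Prelude.Def_GeometricClasses
import Cfsg.Agent.Lib.Geo.Transv
import Cfsg.Agent.Lib.Classical.HermAbs

set_option autoImplicit false

/-! Non-degenerate sesquilinear (hermitian or symmetric) forms on `F^ι` over a finite field:
prescribing the value of the form on an affine subspace of small codimension. -/

namespace Cfsg.Agent.Lib.Geo

open Module

variable {ι : Type} [Fintype ι] [DecidableEq ι] {F : Type*} [Field F]

local notation "V" => (ι → F)

/-- a non-degenerate form, linear in the first variable, hermitian for the involution `σ`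
(possibly trivial). -/
structure SForm (σ : F →+* F) (f : (ι → F) → (ι → F) → F) : Prop where
  inv : ∀ a, σ (σ a) = a
  add_left : ∀ x y v, f (x + y) v = f x v + f y v
  smul_left : ∀ (c : F) (x v : ι → F), f (c • x) v = c * f x v
  herm : ∀ v w, f v w = σ (f w v)
  nd : ∀ v : ι → F, v ≠ 0 → ∃ x, f x v ≠ 0

namespace SForm

variable {σ : F →+* F} {f : (ι → F) → (ι → F) → F}

theorem add_right (hf : SForm σ f) (v x y : V) : f v (x + y) = f v x + f v y := by
  rw [hf.herm, hf.add_left, map_add, ← hf.herm, ← hf.herm]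

theorem smul_right (hf : SForm σ f) (c : F) (v x : V) : f v (c • x) = σ c * f v x := by
  rw [hf.herm, hf.smul_left, map_mul, ← hf.herm]

theorem zero_left (hf : SForm σ f) (v : V) : f 0 v = 0 := by
  have := hf.smul_left 0 0 v
  simpa using this

theorem zero_right (hf : SForm σ f) (v : V) : f v 0 = 0 := by
  rw [hf.herm, hf.zero_left, map_zero]

theorem sub_left (hf : SForm σ f) (x y v : V) : f (x - y) v = f x v - f y v := by
  have h1 := hf.smul_left (-1) y v
  rw [sub_eq_add_neg, ← neg_one_smul F y, hf.add_left, h1]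
  ring

theorem sub_right (hf : SForm σ f) (v x y : V) : f v (x - y) = f v x - f v y := by
  have h1 := hf.smul_right (-1) v y
  rw [sub_eq_add_neg, ← neg_one_smul F y, hf.add_right, h1]
  simp
  ring

theorem eq_zero_flip (hf : SForm σ f) {x y : V} (h : f x y = 0) : f y x = 0 := by
  rw [hf.herm, h, map_zero]

theorem self_fixed (hf : SForm σ f) (x : V) : σ (f x x) = f x x := (hf.herm x x).symm

/-- the linear form `x ↦ f x w` -/
def lf (hf : SForm σ f) (w : V) : Dual F V where
  toFun x := f x w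
  map_add' x y := hf.add_left x y w
  map_smul' c x := hf.smul_left c x w

@[simp] theorem lf_apply (hf : SForm σ f) (w x : V) : hf.lf w x = f x w := rfl

theorem lf_add (hf : SForm σ f) (u w : V) : hf.lf (u + w) = hf.lf u + hf.lf w :=
  LinearMap.ext fun x => hf.add_right x u w

theorem lf_sub (hf : SForm σ f) (u w : V) : hf.lf (u - w) = hf.lf u - hf.lf w :=
  LinearMap.ext fun x => hf.sub_right x u w

theorem lf_smul (hf : SForm σ f) (c : F) (w : V) : hf.lf (c • w) = σ c • hf.lf w :=
  LinearMap.ext fun x => hf.smul_right c x w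

theorem lf_injective (hf : SForm σ f) : Function.Injective hf.lf := by
  intro u w h
  by_contra hne
  obtain ⟨x, hx⟩ := hf.nd (u - w) (sub_ne_zero.2 hne)
  apply hx
  rw [← lf_apply hf, hf.lf_sub, h, sub_self]
  rfl

theorem lf_ne_zero (hf : SForm σ f) {w : V} (hw : w ≠ 0) : hf.lf w ≠ 0 := by
  intro h
  obtain ⟨x, hx⟩ := hf.nd w hw
  exact hx (LinearMap.congr_fun h x)

theorem lf_surjective [Finite F] (hf : SForm σ f) : Function.Surjective hf.lf := by
  have hb : Function.Bijective hf.lf := by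
    haveI : Finite (Dual F V) := Module.finite_of_finite F
    refine Function.Injective.bijective_of_nat_card_le hf.lf_injective ?_
    have : Nat.card (Dual F V) = Nat.card V := by
      refine Nat.card_congr ?_
      haveI := Fintype.ofFinite F
      have e := (Module.Free.chooseBasis F V).toDualEquiv
      exact e.symm.toEquiv
    exact this.le
  exact hb.2

/-- the orthogonal complement -/
def lperp (hf : SForm σ f) (Y : Submodule F V) : Submodule F V where
  carrier := {x | ∀ y ∈ Y, f x y = 0}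
  add_mem' {a b} ha hb y hy := by rw [hf.add_left, ha y hy, hb y hy, add_zero]
  zero_mem' y _ := hf.zero_left y
  smul_mem' c x hx y hy := by rw [hf.smul_left, hx y hy, mul_zero]

theorem mem_lperp (hf : SForm σ f) {Y : Submodule F V} {x : V} :
    x ∈ hf.lperp Y ↔ ∀ y ∈ Y, f x y = 0 := Iff.rfl

theorem finrank_lperp [Finite F] (hf : SForm σ f) (Y : Submodule F V) :
    finrank F (hf.lperp Y) + finrank F Y = Fintype.card ι := by
  haveI := Fintype.ofFinite F
  have h1 := Subspace.finrank_add_finrank_dualAnnihilator_eq Y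
  have hV : finrank F V = Fintype.card ι := by simp
  rw [hV] at h1
  have e : hf.lperp Y ≃ Y.dualAnnihilator := by
    refine Equiv.ofBijective (fun x => ⟨hf.lf x.1, ?_⟩) ⟨?_, ?_⟩
    · rw [Submodule.mem_dualAnnihilator]
      intro y hy
      exact hf.eq_zero_flip (x.2 y hy)
    · rintro ⟨x, hx⟩ ⟨y, hy⟩ h
      exact Subtype.ext (hf.lf_injective (congrArg Subtype.val h))
    · rintro ⟨φ, hφ⟩
      obtain ⟨x, rfl⟩ := hf.lf_surjective φ
      rw [Submodule.mem_dualAnnihilator] at hφ
      exact ⟨⟨x, fun y hy => hf.eq_zero_flip (hφ y hy)⟩, rfl⟩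
  have hc : Nat.card (hf.lperp Y) = Nat.card Y.dualAnnihilator := Nat.card_congr e
  classical
  haveI : Fintype (hf.lperp Y) := Fintype.ofFinite _
  haveI : Finite (Dual F V) := Module.finite_of_finite F
  haveI : Fintype Y.dualAnnihilator := Fintype.ofFinite _
  have hc1 : Nat.card (hf.lperp Y) = Fintype.card F ^ finrank F (hf.lperp Y) := by
    rw [Nat.card_eq_fintype_card (α := hf.lperp Y), Module.card_eq_pow_finrank (K := F)]
  have hc2 : Nat.card Y.dualAnnihilator = Fintype.card F ^ finrank F Y.dualAnnihilator := by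
    rw [Nat.card_eq_fintype_card (α := Y.dualAnnihilator), Module.card_eq_pow_finrank (K := F)]
  have h3 := Nat.pow_right_injective (Fintype.one_lt_card (α := F)) (hc1.symm.trans (hc.trans hc2))
  omega

end SForm

/-- the common kernel of a list of linear forms -/
def cutL (Λ : List (Dual F V)) : Submodule F V :=
  Λ.foldr (fun l A => A ⊓ LinearMap.ker l) ⊤

theorem mem_cutL {Λ : List (Dual F V)} {x : V} : x ∈ cutL Λ ↔ ∀ l ∈ Λ, l x = 0 := by
  induction Λ with
  | nil => simp [cutL]
  | cons a Λ ih =>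
    simp only [cutL, List.foldr_cons, Submodule.mem_inf, LinearMap.mem_ker, List.mem_cons,
      forall_eq_or_imp]
    constructor
    · rintro ⟨h1, h2⟩
      exact ⟨h2, ih.1 h1⟩
    · rintro ⟨h1, h2⟩
      exact ⟨ih.2 h2, h1⟩

theorem finrank_cutL (Λ : List (Dual F V)) :
    Fintype.card ι ≤ finrank F (cutL Λ) + Λ.length := by
  induction Λ with
  | nil =>
    show Fintype.card ι ≤ finrank F (⊤ : Submodule F V) + 0
    rw [finrank_top]
    simp
  | cons a Λ ih =>
    have h1 := Submodule.finrank_sup_add_finrank_inf_eq (cutL Λ) (LinearMap.ker a)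
    have h2 := LinearMap.finrank_range_add_finrank_ker a
    have h3 : finrank F (LinearMap.range a) ≤ 1 := (Submodule.finrank_le _).trans (by simp)
    have h4 : finrank F ↥(cutL Λ ⊔ LinearMap.ker a) ≤ finrank F V := Submodule.finrank_le _
    have hV : finrank F V = Fintype.card ι := by simp
    rw [hV] at h2 h4
    have e : cutL (a :: Λ) = cutL Λ ⊓ LinearMap.ker a := rfl
    rw [e, List.length_cons]
    omega

section solve

variable {σ : F →+* F} {f : (ι → F) → (ι → F) → F} [Finite F] (hf : SForm σ f)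
  (hiso : ∀ W : Submodule F (ι → F), 3 ≤ finrank F W → ∃ x ∈ W, x ≠ 0 ∧ f x x = 0)
  (htr : ∀ a, σ a = a → ∃ b, b + σ b = a)

include hf hiso in
/-- Subspaces of small codimension contain an isotropic vector which is not in their radical. -/
theorem exists_hyp (Y : Submodule F V) (hY : 2 * Fintype.card ι + 3 ≤ 2 * finrank F Y + Fintype.card ι) :
    ∃ p₁ ∈ Y, ∃ p₂ ∈ Y, f p₁ p₁ = 0 ∧ f p₁ p₂ ≠ 0 := by
  set R : Submodule F V := Y ⊓ hf.lperp Y with hR
  obtain ⟨E, hE⟩ := Submodule.exists_isCompl R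
  have h1 := Submodule.finrank_add_eq_of_isCompl hE
  have hV : finrank F V = Fintype.card ι := by simp
  rw [hV] at h1
  have h2 := hf.finrank_lperp Y
  have h3 : finrank F R ≤ finrank F (hf.lperp Y) := Submodule.finrank_mono inf_le_right
  have h4 := Submodule.finrank_sup_add_finrank_inf_eq E Y
  have h5 : finrank F ↥(E ⊔ Y) ≤ finrank F V := Submodule.finrank_le _
  rw [hV] at h5
  obtain ⟨x, hx, hx0, hxx⟩ := hiso (E ⊓ Y) (by omega)
  have hxR : x ∉ hf.lperp Y := by
    intro h
    have : x ∈ R ⊓ E := ⟨⟨hx.2, h⟩, hx.1⟩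
    rw [hE.inf_eq_bot] at this
    exact hx0 this
  rw [hf.mem_lperp] at hxR
  push Not at hxR
  obtain ⟨y, hy, hy0⟩ := hxR
  exact ⟨x, hx.2, y, hy, hxx, hy0⟩

include hf hiso htr in
/-- the form takes every allowed value on an affine subspace of small codimension. -/
theorem affine_solve (Λ : List (Dual F V)) (hΛ : 2 * Λ.length + 5 ≤ Fintype.card ι) (y₀ : V) {e : F}
    (he : σ e = e) : ∃ z, (∀ l ∈ Λ, l z = l y₀) ∧ f z z = e := by
  obtain ⟨p₁, hp₁, p₂, hp₂, h11, h12⟩ := exists_hyp hf hiso (cutL (hf.lf y₀ :: Λ)) (by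
    have := finrank_cutL (hf.lf y₀ :: Λ)
    rw [List.length_cons] at this
    omega)
  rw [mem_cutL] at hp₁ hp₂
  have hp₁y : f p₁ y₀ = 0 := hp₁ (hf.lf y₀) (by simp)
  have hp₂y : f p₂ y₀ = 0 := hp₂ (hf.lf y₀) (by simp)
  have hyp₁ : f y₀ p₁ = 0 := hf.eq_zero_flip hp₁y
  have hyp₂ : f y₀ p₂ = 0 := hf.eq_zero_flip hp₂y
  set E := f y₀ y₀ + f p₂ p₂ with hE
  have hEs : σ (e - E) = e - E := by
    rw [map_sub, he, hE, map_add, hf.self_fixed, hf.self_fixed]
  obtain ⟨τ, hτ⟩ := htr _ hEs
  set γ := τ / f p₁ p₂ with hγ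
  refine ⟨y₀ + γ • p₁ + p₂, fun l hl => ?_, ?_⟩
  · have h1 := hp₁ l (List.mem_cons_of_mem _ hl)
    have h2 := hp₂ l (List.mem_cons_of_mem _ hl)
    simp [h1, h2]
  · have hs : γ * f p₁ p₂ = τ := by
      rw [hγ]
      field_simp
    have h21 : f p₂ p₁ = σ (f p₁ p₂) := hf.herm _ _
    have h3 : σ γ * f p₂ p₁ = σ τ := by
      rw [h21, ← map_mul, hs]
    simp only [hf.add_left, hf.add_right, hf.smul_left, hf.smul_right, hp₁y, hp₂y, hyp₁, hyp₂, h11]
    rw [h3, ← sub_eq_zero]
    rw [hs]
    rw [hE] at hτ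
    linear_combination hτ

include hf hiso htr in
/-- Every vector in a hyperplane-like subspace `cutL Λ` is the sum of two isotropic vectors
lying in it. -/
theorem exists_iso_decomp (Λ : List (Dual F V)) (hΛ : 2 * Λ.length + 7 ≤ Fintype.card ι) {x : V}
    (hx : ∀ l ∈ Λ, l x = 0) : ∃ p, (∀ l ∈ Λ, l p = 0) ∧ f p p = 0 ∧ f (x - p) (x - p) = 0 := by
  by_cases hxx : f x x = 0
  · exact ⟨0, fun l _ => map_zero l, hf.zero_left _, by simpa using hxx⟩
  obtain ⟨a, ha⟩ := htr _ (hf.self_fixed x)
  obtain ⟨p, hp1, hp2⟩ := affine_solve hf hiso htr (hf.lf x :: Λ)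
    (by rw [List.length_cons]; omega) ((a / f x x) • x) (e := 0) (map_zero σ)
  have h1 : f p x = a := by
    have := hp1 (hf.lf x) (by simp)
    simp only [SForm.lf_apply] at this
    rw [this, hf.smul_left]
    field_simp
  refine ⟨p, fun l hl => ?_, hp2, ?_⟩
  · have := hp1 l (List.mem_cons_of_mem _ hl)
    rw [this, map_smul, hx l hl, smul_zero]
  · rw [hf.sub_left, hf.sub_right, hf.sub_right, hp2, h1, hf.herm x p, h1]
    rw [← ha]
    ring

end solve

/-! existence of isotropic vectors -/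

theorem hiso_herm [Finite F] {σ : F →+* F} {f : V → V → F} (hf : SForm σ f) (hσ : σ ≠ RingHom.id F)
    (W : Submodule F V) (hW : 3 ≤ finrank F W) : ∃ x ∈ W, x ≠ 0 ∧ f x x = 0 := by
  -- first a nonzero vector of `W`
  by_contra hcon
  push Not at hcon
  obtain ⟨x, hx, hx0⟩ : ∃ x ∈ W, x ≠ 0 := by
    have : W ≠ ⊥ := by
      rintro rfl
      simp at hW
    exact Submodule.exists_mem_ne_zero_of_ne_bot this
  have hxx := hcon x hx hx0
  -- a vector of `W` orthogonal to `x`, nonzero
  obtain ⟨y, hy, hy0, hyx⟩ : ∃ y ∈ W, y ≠ 0 ∧ f y x = 0 := by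
    have h1 := Submodule.finrank_sup_add_finrank_inf_eq W (LinearMap.ker (hf.lf x))
    have h2 := LinearMap.finrank_range_add_finrank_ker (hf.lf x)
    have h3 : finrank F (LinearMap.range (hf.lf x)) ≤ 1 := (Submodule.finrank_le _).trans (by simp)
    have h4 : finrank F ↥(W ⊔ LinearMap.ker (hf.lf x)) ≤ finrank F V := Submodule.finrank_le _
    have h5 : W ⊓ LinearMap.ker (hf.lf x) ≠ ⊥ := by
      intro h
      rw [h] at h1
      simp only [finrank_bot] at h1
      omega
    obtain ⟨y, hy, hy0⟩ := Submodule.exists_mem_ne_zero_of_ne_bot h5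
    exact ⟨y, hy.1, hy0, hy.2⟩
  have hyy := hcon y hy hy0
  have hxy : f x y = 0 := hf.eq_zero_flip hyx
  -- the norm equation
  have hfix : σ (-(f x x) / f y y) = -(f x x) / f y y := by
    rw [map_div₀, map_neg, hf.self_fixed, hf.self_fixed]
  have hne : -(f x x) / f y y ≠ 0 := div_ne_zero (neg_ne_zero.2 hxx) hyy
  obtain ⟨μ, hμ0, hμ⟩ := Cfsg.Agent.Lib.Classical.Witt.norm_surj_sigma σ hσ hf.inv _ hne hfix
  have hv := hcon (x + μ • y) (W.add_mem hx (W.smul_mem _ hy)) (by
    intro h
    have h6 := congrArg (fun z => f z x) h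
    simp only [hf.add_left, hf.smul_left, hyx, mul_zero, add_zero, hf.zero_left] at h6
    exact hxx h6)
  apply hv
  simp only [hf.add_left, hf.add_right, hf.smul_left, hf.smul_right, hxy, hyx, mul_zero, zero_add,
    add_zero]
  rw [← mul_assoc, hμ]
  field_simp
  ring

theorem htr_herm {σ : F →+* F} (hσ : σ ≠ RingHom.id F) (hinv : ∀ a, σ (σ a) = a) (a : F)
    (ha : σ a = a) : ∃ b, b + σ b = a := by
  obtain ⟨c, hc⟩ : ∃ c, c + σ c ≠ 0 := by
    by_contra hcon
    push Not at hcon
    have h1 := hcon 1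
    rw [map_one] at h1
    apply hσ
    ext x
    have h2 := hcon x
    simp only [RingHom.id_apply]
    linear_combination h2 - x * h1
  have hfix : σ (c + σ c) = c + σ c := by
    rw [map_add, hinv, add_comm]
  refine ⟨a / (c + σ c) * c, ?_⟩
  rw [map_mul, map_div₀, ha, hfix]
  field_simp

end Cfsg.Agent.Lib.Geo
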