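import Mathlib
import Cfsg.Agent.Lib.Geo.SesqSolve

set_option autoImplicit false

/-! Symmetric bilinear forms over a finite field: isotropic vectors (Chevalley–Warning). -/

namespace Cfsg.Agent.Lib.Geo

open Module MvPolynomial

variable {ι : Type} [Fintype ι] [DecidableEq ι] {F : Type*} [Field F]

local notation "V" => (ι → F)

theorem hiso_sym [Fintype F] {f : (ι → F) → (ι → F) → F} (hf : SForm (RingHom.id F) f)
    (W : Submodule F (ι → F)) (hW : 3 ≤ finrank F W) : ∃ x ∈ W, x ≠ 0 ∧ f x x = 0 := by
  classical
  obtain ⟨e, he⟩ := exists_linearIndependent_of_le_finrank (R := F) hW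
  let x : Fin 3 → V := fun i => (e i : V)
  have hx : LinearIndependent F x := he.map' W.subtype (Submodule.ker_subtype W)
  let P : MvPolynomial (Fin 3) F := ∑ i, ∑ j, C (f (x i) (x j)) * (X i * X j)
  have hdeg : P.totalDegree < Fintype.card (Fin 3) := by
    have h1 : P.totalDegree ≤ 2 := by
      refine totalDegree_finsetSum_le fun i _ => totalDegree_finsetSum_le fun j _ => ?_
      refine (totalDegree_mul _ _).trans ?_
      have h2 : (X i * X j : MvPolynomial (Fin 3) F).totalDegree ≤ 2 := by
        refine (totalDegree_mul _ _).trans ?_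
        simp
      simp only [totalDegree_C, zero_add]
      exact h2
    simp only [Fintype.card_fin]
    omega
  have heval : ∀ a : Fin 3 → F, eval a P = f (∑ i, a i • x i) (∑ j, a j • x j) := by
    intro a
    have hl : ∀ (s : Finset (Fin 3)) (g : Fin 3 → V) (v : V), f (∑ i ∈ s, g i) v = ∑ i ∈ s, f (g i) v := by
      intro s g v
      induction s using Finset.induction_on with
      | empty => simp [hf.zero_left]
      | insert i s hi ih => rw [Finset.sum_insert hi, Finset.sum_insert hi, hf.add_left, ih]
    have hr : ∀ (s : Finset (Fin 3)) (g : Fin 3 → V) (v : V), f v (∑ i ∈ s, g i) = ∑ i ∈ s, f v (g i) := by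
      intro s g v
      induction s using Finset.induction_on with
      | empty => simp [hf.zero_right]
      | insert i s hi ih => rw [Finset.sum_insert hi, Finset.sum_insert hi, hf.add_right, ih]
    simp only [P, map_sum, map_mul, eval_C, eval_X]
    rw [hl]
    refine Finset.sum_congr rfl fun i _ => ?_
    rw [hr]
    refine Finset.sum_congr rfl fun j _ => ?_
    rw [hf.smul_left, hf.smul_right]
    simp only [RingHom.id_apply]
    ring
  haveI := ringChar.charP F
  have hdvd := char_dvd_card_solutions (K := F) (σ := Fin 3) (ringChar F) hdeg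
  by_contra hcon
  push Not at hcon
  have hall : ∀ a : {a : Fin 3 → F // eval a P = 0}, a.1 = 0 := by
    rintro ⟨a, ha⟩
    by_contra ha0
    have hne : ∑ i, a i • x i ≠ 0 := by
      intro h
      apply ha0
      funext i
      exact Fintype.linearIndependent_iff.1 hx a h i
    refine hcon _ ?_ hne (by rw [← heval]; exact ha)
    exact W.sum_mem fun i _ => W.smul_mem _ (e i).2
  have hzero : eval (0 : Fin 3 → F) P = 0 := by
    rw [heval]
    simp [hf.zero_left]
  have hcard : Fintype.card {a : Fin 3 → F // eval a P = 0} = 1 := by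
    rw [Fintype.card_eq_one_iff]
    refine ⟨⟨0, hzero⟩, fun y => Subtype.ext (hall y)⟩
  rw [hcard] at hdvd
  exact CharP.char_ne_one F (ringChar F) (Nat.dvd_one.1 hdvd)

end Cfsg.Agent.Lib.Geo
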