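import Mathlib
import Cfsg.Agent.Lib.Geo.Transv

set_option autoImplicit false

/-! Maximality of subspace stabilizers in `SL`. -/

namespace Cfsg.Agent.Lib.Geo

open scoped MatrixGroups Matrix
open Module

variable {ι : Type} [Fintype ι] [DecidableEq ι] {F : Type*} [Field F]

section dil

variable {V : Type*} [AddCommGroup V] [Module F V]

/-- A dilatransvection `x ↦ x + α x • a`. -/
noncomputable def dt (α : Dual F V) (a : V) (h : 1 + α a ≠ 0) : V ≃ₗ[F] V :=
  LinearEquiv.dilatransvection (f := α) (v := a) (isUnit_iff_ne_zero.2 h)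

theorem dt_apply (α : Dual F V) (a : V) (h : 1 + α a ≠ 0) (x : V) : dt α a h x = x + α x • a :=
  LinearEquiv.dilatransvection.apply

theorem dt_det [FiniteDimensional F V] (α : Dual F V) (a : V) (h : 1 + α a ≠ 0) :
    LinearMap.det ((dt α a h : V ≃ₗ[F] V) : V →ₗ[F] V) = 1 + α a := by
  show LinearMap.det (LinearMap.transvection α a) = _
  exact LinearMap.transvection.det α a

theorem dt_stab_of_center {W : Submodule F V} {α : Dual F V} {a : V} (h : 1 + α a ≠ 0) (ha : a ∈ W)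
    (x : V) : x ∈ W ↔ dt α a h x ∈ W := by
  rw [dt_apply]
  exact (W.add_mem_iff_left (W.smul_mem _ ha)).symm

theorem dt_stab_of_form {W : Submodule F V} {α : Dual F V} {a : V} (h : 1 + α a ≠ 0)
    (hα : ∀ w ∈ W, α w = 0) (x : V) : x ∈ W ↔ dt α a h x ∈ W := by
  rw [dt_apply]
  constructor
  · intro hx
    rw [hα x hx, zero_smul, add_zero]
    exact hx
  · intro hx
    have h1 := hα _ hx
    rw [map_add, map_smul, smul_eq_mul] at h1
    have h2 : α x * (1 + α a) = 0 := by rw [← h1]; ring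
    have h3 : α x = 0 := (mul_eq_zero.1 h2).resolve_right h
    rw [h3, zero_smul, add_zero] at hx
    exact hx

/-- A vector in `W` on which two forms, nonzero on `W`, take prescribed kind of values. -/
theorem exists_vec_forms {W : Submodule F V} {φ φ₀ : Dual F V} {p p₀ : V} (hp : p ∈ W) (hφ : φ p ≠ 0)
    (hp₀ : p₀ ∈ W) (hφ₀ : φ₀ p₀ ≠ 0) : ∃ a ∈ W, φ a = 1 ∧ φ₀ a ≠ 0 := by
  set a₁ := (φ p)⁻¹ • p with ha₁
  have h1 : φ a₁ = 1 := by simp [ha₁, hφ]
  have h1W : a₁ ∈ W := W.smul_mem _ hp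
  by_cases h2 : φ₀ a₁ = 0
  · set a₂ := (φ₀ p₀)⁻¹ • p₀ with ha₂
    have h3 : φ₀ a₂ = 1 := by simp [ha₂, hφ₀]
    have h3W : a₂ ∈ W := W.smul_mem _ hp₀
    refine ⟨a₁ + a₂ - φ a₂ • a₁, W.sub_mem (W.add_mem h1W h3W) (W.smul_mem _ h1W), ?_, ?_⟩
    · simp [h1]
    · simp [h2, h3]
  · exact ⟨a₁, h1W, h1, h2⟩

/-- A form vanishing on `W`, with prescribed kind of values on two points outside `W`. -/
theorem exists_form_vecs {W : Submodule F V} {v v₁ : V} (hv : v ∉ W) (hv₁ : v₁ ∉ W) :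
    ∃ α : Dual F V, (∀ w ∈ W, α w = 0) ∧ α v₁ = 1 ∧ α v ≠ 0 := by
  obtain ⟨β, hβ1, hβ2⟩ := exists_dual_of_notMem hv₁
  obtain ⟨γ, hγ1, hγ2⟩ := exists_dual_of_notMem hv
  by_cases h : β v = 0
  · refine ⟨β + γ - γ v₁ • β, fun w hw => ?_, ?_, ?_⟩
    · simp [hβ2 w hw, hγ2 w hw]
    · simp [hβ1]
    · simp [h, hγ1]
  · exact ⟨β, hβ2, hβ1, h⟩

end dil

variable {W : Submodule F (ι → F)}

/-- Generic pairs: form nonzero on `W`, vector outside `W`. -/
structure Generic (W : Submodule F (ι → F)) (φ : Dual F (ι → F)) (v : ι → F) : Prop where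
  zero : φ v = 0
  notMem : v ∉ W
  exists_ne : ∃ p ∈ W, φ p ≠ 0

/-- Transitivity of the stabilizer in `SL` on generic pairs. -/
theorem exists_move (hn : 4 ≤ Fintype.card ι) {φ₀ φ : Dual F (ι → F)} {v₀ v : ι → F}
    (h₀ : Generic W φ₀ v₀) (h : Generic W φ v) :
    ∃ e : (ι → F) ≃ₗ[F] (ι → F), (∀ x, x ∈ W ↔ e x ∈ W) ∧
      LinearMap.det (e : (ι → F) →ₗ[F] (ι → F)) = 1 ∧ e v₀ = v ∧ ∀ x, φ (e x) = φ₀ x := by
  obtain ⟨p₀, hp₀, hφp₀⟩ := h₀.exists_ne
  obtain ⟨p, hp, hφp⟩ := h.exists_ne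
  -- first step
  obtain ⟨a, haW, hφa, hφ₀a⟩ := exists_vec_forms hp hφp hp₀ hφp₀
  have hu₁ : 1 + (φ₀ - φ) a ≠ 0 := by
    simpa [hφa] using hφ₀a
  let e₁ := dt (φ₀ - φ) a hu₁
  have he₁W := dt_stab_of_center hu₁ haW
  have he₁φ : ∀ x, φ (e₁ x) = φ₀ x := by
    intro x
    simp only [e₁, dt_apply, map_add, map_smul, smul_eq_mul, hφa, LinearMap.sub_apply]
    ring
  have he₁d : LinearMap.det (e₁ : (ι → F) →ₗ[F] (ι → F)) = φ₀ a := by
    rw [dt_det]; simp [hφa]
  set v₁ := e₁ v₀ with hv₁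
  have hv₁W : v₁ ∉ W := fun hmem => h₀.notMem ((he₁W v₀).2 hmem)
  have hφv₁ : φ v₁ = 0 := by rw [hv₁, he₁φ, h₀.zero]
  -- second step
  obtain ⟨α, hαW, hαv₁, hαv⟩ := exists_form_vecs h.notMem hv₁W
  have hu₂ : 1 + α (v - v₁) ≠ 0 := by
    simpa [hαv₁] using hαv
  let e₂ := dt α (v - v₁) hu₂
  have he₂W := dt_stab_of_form hu₂ hαW
  have he₂φ : ∀ x, φ (e₂ x) = φ x := by
    intro x
    simp only [e₂, dt_apply, map_add, map_smul, map_sub, h.zero, hφv₁, smul_eq_mul]
    ring
  have he₂v : e₂ v₁ = v := by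
    simp [e₂, dt_apply, hαv₁]
  have he₂d : LinearMap.det (e₂ : (ι → F) →ₗ[F] (ι → F)) = α v := by
    rw [dt_det]; simp [hαv₁]
  -- third step: determinant adjustment
  set d := φ₀ a * α v with hd
  have hd0 : d ≠ 0 := mul_ne_zero hφ₀a hαv
  have hfinal : ∃ (lam : Dual F (ι → F)) (b : ι → F), φ b = 0 ∧ lam v = 0 ∧ 1 + lam b = d⁻¹ ∧
      (b ∈ W ∨ ∀ w ∈ W, lam w = 0) := by
    by_cases hW2 : 2 ≤ finrank F W
    · -- a vector of `W` in the kernel of `φ`
      have hq : ∃ q ∈ W, q ∉ Submodule.span F {p} := by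
        by_contra hcon
        push Not at hcon
        have hle : W ≤ Submodule.span F {p} := hcon
        have h1 := Submodule.finrank_mono hle
        have h2 := finrank_span_singleton (K := F) (v := p) (by rintro rfl; simp at hφp)
        omega
      obtain ⟨q, hqW, hqp⟩ := hq
      set b := q - (φ q / φ p) • p with hb
      have hbW : b ∈ W := W.sub_mem hqW (W.smul_mem _ hp)
      have hφb : φ b = 0 := by
        simp [hb, hφp]
      have hb0 : b ∉ Submodule.span F {v} := by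
        intro hmem
        obtain ⟨c, hc⟩ := Submodule.mem_span_singleton.1 hmem
        by_cases hc0 : c = 0
        · apply hqp
          have h1 : q = (φ q / φ p) • p := by
            rw [hc0, zero_smul] at hc
            exact (sub_eq_zero.1 hc.symm)
          rw [h1]
          exact Submodule.smul_mem _ _ (Submodule.mem_span_singleton_self p)
        · apply h.notMem
          rw [← hc] at hbW
          exact (W.smul_mem_iff hc0).1 hbW
      obtain ⟨μ, hμ1, hμ2⟩ := exists_dual_of_notMem hb0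
      refine ⟨(d⁻¹ - 1) • μ, b, hφb, ?_, ?_, Or.inl hbW⟩
      · simp [hμ2 v (Submodule.mem_span_singleton_self v)]
      · simp [hμ1]
    · -- a vector of the kernel outside `W + F v`
      have hq : ∃ b, φ b = 0 ∧ b ∉ W ⊔ Submodule.span F {v} := by
        by_contra hcon
        push Not at hcon
        have hle : LinearMap.ker φ ≤ W ⊔ Submodule.span F {v} := fun b hb => hcon b hb
        have h1 := Submodule.finrank_mono hle
        have h2 := Submodule.finrank_add_le_finrank_add_finrank W (Submodule.span F {v})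
        have h3 := finrank_span_le_card (R := F) ({v} : Set (ι → F))
        have h4 : φ ≠ 0 := by
          rintro rfl
          simp at hφp
        have h5 := Module.Dual.finrank_ker_add_one_of_ne_zero h4
        rw [finrank_fintype_fun_eq_card] at h5
        simp only [Set.toFinset_singleton, Finset.card_singleton] at h3
        omega
      obtain ⟨b, hφb, hbS⟩ := hq
      obtain ⟨μ, hμ1, hμ2⟩ := exists_dual_of_notMem hbS
      refine ⟨(d⁻¹ - 1) • μ, b, hφb, ?_, ?_, Or.inr fun w hw => ?_⟩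
      · simp [hμ2 v ((le_sup_right : _ ≤ W ⊔ _) (Submodule.mem_span_singleton_self v))]
      · simp [hμ1]
      · simp [hμ2 w ((le_sup_left : _ ≤ W ⊔ _) hw)]
  obtain ⟨lam, b, hφb, hlamv, hlamb, hcase⟩ := hfinal
  have hu₃ : 1 + lam b ≠ 0 := by
    rw [hlamb]; exact inv_ne_zero hd0
  let e₃ := dt lam b hu₃
  have he₃W : ∀ x, x ∈ W ↔ e₃ x ∈ W := by
    rcases hcase with hc | hc
    · exact dt_stab_of_center hu₃ hc
    · exact dt_stab_of_form hu₃ hc
  have he₃φ : ∀ x, φ (e₃ x) = φ x := by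
    intro x
    simp [e₃, dt_apply, hφb]
  have he₃v : e₃ v = v := by
    simp [e₃, dt_apply, hlamv]
  have he₃d : LinearMap.det (e₃ : (ι → F) →ₗ[F] (ι → F)) = d⁻¹ := by
    rw [dt_det, hlamb]
  refine ⟨(e₁.trans e₂).trans e₃, fun x => ?_, ?_, ?_, fun x => ?_⟩
  · show x ∈ W ↔ e₃ (e₂ (e₁ x)) ∈ W
    rw [he₁W x, he₂W (e₁ x), he₃W (e₂ (e₁ x))]
  · have : (((e₁.trans e₂).trans e₃ : (ι → F) ≃ₗ[F] (ι → F)) : (ι → F) →ₗ[F] (ι → F))
        = (e₃ : (ι → F) →ₗ[F] (ι → F)) ∘ₗ (e₂ : (ι → F) →ₗ[F] (ι → F)) ∘ₗ (e₁ : (ι → F) →ₗ[F] (ι → F)) := rfl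
    rw [this, LinearMap.det_comp, LinearMap.det_comp, he₁d, he₂d, he₃d, hd]
    field_simp
  · show e₃ (e₂ (e₁ v₀)) = v
    rw [← hv₁, he₂v, he₃v]
  · show φ (e₃ (e₂ (e₁ x))) = φ₀ x
    rw [he₃φ, he₂φ, he₁φ]

/-- Generated by transvections: a subgroup of `GL` containing all transvections contains `SL`. -/
theorem specialLinear_le_of_tv [Nontrivial ι] (M : Subgroup (GL ι F))
    (hM : ∀ (φ : Dual F (ι → F)) (v : ι → F) (h : φ v = 0), tv h ∈ M) :
    Cfsg.Geo.specialLinear ι F ≤ M := by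
  intro g hg
  have hdet : Matrix.det (g : Matrix ι ι F) = 1 := by
    have h1 : Matrix.GeneralLinearGroup.det g = 1 := hg
    have h2 := congrArg Units.val h1
    exact h2
  let A : Matrix.SpecialLinearGroup ι F := ⟨(g : Matrix ι ι F), hdet⟩
  have key : ∀ B : Matrix.SpecialLinearGroup ι F, (B : GL ι F) ∈ M := by
    intro B
    refine Cfsg.Agent.Lib.Classical.transvection_induction (fun C => (C : GL ι F) ∈ M) B ?_ ?_
    · intro i j hij a
      have hφ : ((a • LinearMap.proj j : Dual F (ι → F))) (Pi.single i 1) = 0 := by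
        simp [Pi.single_eq_of_ne hij.symm]
      have : ((Matrix.SpecialLinearGroup.transvection hij a : Matrix.SpecialLinearGroup ι F) : GL ι F) = tv hφ := by
        apply act.injective
        ext1 x
        rw [act_tv_apply, act_apply]
        funext k
        simp [Matrix.SpecialLinearGroup.transvection_coe, Matrix.add_mulVec, Matrix.single_mulVec,
          Pi.single_apply]
        by_cases hk : k = i <;> simp [hk]
      rw [this]
      exact hM _ _ _
    · intro C D hC hD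
      rw [map_mul] 
      exact M.mul_mem hC hD
  have h3 := key A
  have h4 : (A : GL ι F) = g := by
    ext1
    rfl
  rwa [h4] at h3

/-- The stabilizer in `SL` of a proper nonzero subspace is maximal in `SL`. -/
theorem isMaximalIn_stab (hn : 4 ≤ Fintype.card ι) (hW0 : W ≠ ⊥) (hW1 : W ≠ ⊤) :
    Cfsg.Geo.IsMaximalIn (Cfsg.Geo.specialLinear ι F)
      (Cfsg.Geo.subspaceStabilizer W ⊓ Cfsg.Geo.specialLinear ι F) := by
  have hnt : Nontrivial ι := Fintype.one_lt_card_iff_nontrivial.1 (by omega)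
  refine ⟨?_, fun M hPM hMS => ?_⟩
  · obtain ⟨g, hg, hgW⟩ := exists_SL_not_stab hW0 hW1
    rw [SetLike.lt_iff_le_and_exists]
    exact ⟨inf_le_right, g, hg, fun h => hgW h.1⟩
  by_cases hMP : M ≤ Cfsg.Geo.subspaceStabilizer W ⊓ Cfsg.Geo.specialLinear ι F
  · exact Or.inl (le_antisymm hMP hPM)
  right
  obtain ⟨g, hgM, hgP⟩ := SetLike.not_le_iff_exists.1 hMP
  have hgW : g ∉ Cfsg.Geo.subspaceStabilizer W := fun h => hgP ⟨h, hMS hgM⟩
  -- an element of `W` moved outside
  have hexw : ∃ w ∈ W, act g w ∉ W := by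
    by_contra hcon
    push Not at hcon
    apply hgW
    rw [mem_stab_iff]
    intro x
    refine ⟨hcon x, fun hx => ?_⟩
    have hle : W.map ((act g : (ι → F) ≃ₗ[F] (ι → F)) : (ι → F) →ₗ[F] (ι → F)) ≤ W := by
      rintro _ ⟨w, hw, rfl⟩
      exact hcon w hw
    have heq := Submodule.eq_of_le_of_finrank_eq hle (LinearEquiv.finrank_map_eq (act g) W)
    rw [← heq] at hx
    obtain ⟨w, hw, hwx⟩ := hx
    have : w = x := (act g).injective hwx
    rwa [← this]
  obtain ⟨w, hwW, hgw⟩ := hexw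
  have hw0 : w ≠ 0 := by
    rintro rfl
    simp at hgw
  -- the form
  set y := act g⁻¹ w with hy
  have hgy : act g y = w := by
    rw [hy, ← LinearEquiv.mul_apply, ← map_mul]
    simp
  have hyspan : y ∉ Submodule.span F {w} := by
    intro hmem
    obtain ⟨c, hc⟩ := Submodule.mem_span_singleton.1 hmem
    have hc0 : c ≠ 0 := by
      rintro rfl
      rw [zero_smul] at hc
      rw [← hc] at hgy
      simp at hgy
      exact hw0 hgy.symm
    apply hgw
    have h1 : w = c • act g w := by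
      rw [← map_smul, hc, hgy]
    have h2 : c • act g w ∈ W := h1 ▸ hwW
    exact (W.smul_mem_iff hc0).1 h2
  obtain ⟨ψ, hψ1, hψ2⟩ := exists_dual_of_notMem hyspan
  have hψw : ψ w = 0 := hψ2 w (Submodule.mem_span_singleton_self w)
  have hτ₁ : tv hψw ∈ M := hPM ⟨tv_mem_stab_of_center hψw hwW, tv_mem_SL hψw⟩
  obtain ⟨hzero, hconj⟩ := conj_tv hψw g
  have hτ₀ : tv hzero ∈ M := by
    rw [← hconj]
    exact M.mul_mem (M.mul_mem hgM hτ₁) (M.inv_mem hgM)
  set φ₀ : Dual F (ι → F) := ψ ∘ₗ ((act g⁻¹ : (ι → F) ≃ₗ[F] (ι → F)) : (ι → F) →ₗ[F] (ι → F)) with hφ₀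
  have hgen₀ : Generic W φ₀ (act g w) := by
    refine ⟨hzero, hgw, w, hwW, ?_⟩
    show ψ (act g⁻¹ w) ≠ 0
    rw [← hy, hψ1]
    exact one_ne_zero
  -- all transvections
  have hall : ∀ (φ : Dual F (ι → F)) (v : ι → F) (h : φ v = 0), tv h ∈ M := by
    intro φ v h
    by_cases hvW : v ∈ W
    · exact hPM ⟨tv_mem_stab_of_center h hvW, tv_mem_SL h⟩
    by_cases hφW : ∀ p ∈ W, φ p = 0
    · exact hPM ⟨tv_mem_stab_of_form h hφW, tv_mem_SL h⟩
    push Not at hφW
    have hgen : Generic W φ v := ⟨h, hvW, hφW⟩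
    obtain ⟨e, he1, he2, he3, he4⟩ := exists_move hn hgen₀ hgen
    have heP : act.symm e ∈ Cfsg.Geo.subspaceStabilizer W ⊓ Cfsg.Geo.specialLinear ι F := by
      constructor
      · show act.symm e ∈ Cfsg.Geo.subspaceStabilizer W
        rw [mem_stab_iff]
        intro x
        rw [MulEquiv.apply_symm_apply]
        exact he1 x
      · show act.symm e ∈ Cfsg.Geo.specialLinear ι F
        rw [mem_SL_iff, MulEquiv.apply_symm_apply]
        exact he2
    have heM := hPM heP
    have heq : tv h = act.symm e * tv hzero * (act.symm e)⁻¹ := by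
      apply act.injective
      ext1 x
      rw [map_mul, map_mul, map_inv, MulEquiv.apply_symm_apply, LinearEquiv.mul_apply,
        LinearEquiv.mul_apply, act_tv_apply, act_tv_apply]
      have h1 : e⁻¹ x = e.symm x := rfl
      rw [h1, map_add, map_smul, he3, e.apply_symm_apply]
      have h2 : φ₀ (e.symm x) = φ x := by
        rw [← he4 (e.symm x), e.apply_symm_apply]
      rw [h2]
    rw [heq]
    exact M.mul_mem (M.mul_mem heM hτ₀) (M.inv_mem heM)
  exact le_antisymm hMS (specialLinear_le_of_tv M hall)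

end Cfsg.Agent.Lib.Geo
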