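import Mathlib
import Cfsg.Agent.Lib.Geo.Parabolic

set_option autoImplicit false

/-! Root subgroups (transvections with a fixed centre and axis) in subgroups of `GL`:
additivity, commutator relations. -/

namespace Cfsg.Agent.Lib.Geo

open scoped MatrixGroups Matrix
open Module

variable {ι : Type} [Fintype ι] [DecidableEq ι] {F : Type*} [Field F]

local notation "V" => (ι → F)

theorem tv_congr {φ φ' : Dual F V} {v v' : V} (h : φ v = 0) (h' : φ' v' = 0) (e1 : φ = φ')
    (e2 : v = v') : tv h = tv h' := by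
  subst e1 e2
  rfl

theorem tv_zero_form {v : V} (h : (0 : Dual F V) v = 0) : tv h = (1 : GL ι F) := by
  apply act.injective
  ext1 x
  rw [act_tv_apply]
  simp [map_one]

theorem tv_zero_center {φ : Dual F V} (h : φ (0 : V) = 0) : tv h = (1 : GL ι F) := by
  apply act.injective
  ext1 x
  rw [act_tv_apply]
  simp [map_one]

theorem tv_mul_form {φ φ' : Dual F V} {v : V} (h : φ v = 0) (h' : φ' v = 0) (h'' : (φ + φ') v = 0) :
    tv h * tv h' = tv h'' := by
  apply act.injective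
  ext1 x
  rw [map_mul, LinearEquiv.mul_apply, act_tv_apply, act_tv_apply, act_tv_apply]
  simp only [map_add, map_smul, h, smul_eq_mul, mul_zero, add_zero, LinearMap.add_apply, add_smul]
  abel

theorem tv_mul_center {φ : Dual F V} {v w : V} (h : φ v = 0) (h' : φ w = 0) (h'' : φ (v + w) = 0) :
    tv h * tv h' = tv h'' := by
  apply act.injective
  ext1 x
  rw [map_mul, LinearEquiv.mul_apply, act_tv_apply, act_tv_apply, act_tv_apply]
  simp only [map_add, map_smul, h', smul_eq_mul, mul_zero, add_zero, smul_add]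
  abel

theorem tv_inv {φ : Dual F V} {v : V} (h : φ v = 0) (h' : (-φ) v = 0) : (tv h)⁻¹ = tv h' := by
  apply inv_eq_of_mul_eq_one_right
  rw [tv_mul_form h h' (by simp [h])]
  have : tv (φ := φ + -φ) (v := v) (by simp [h]) = tv (φ := 0) (v := v) (by simp) :=
    tv_congr _ _ (by simp) rfl
  rw [this, tv_zero_form]

theorem tv_smul_center {φ : Dual F V} {v : V} (a : F) (h : (a • φ) v = 0) (h' : φ (a • v) = 0) :
    tv h = tv h' := by
  apply act.injective
  ext1 x
  rw [act_tv_apply, act_tv_apply]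
  simp [smul_smul, mul_comm]

/-- commutator of two transvections with `ψ v = 0` -/
theorem tv_comm {φ ψ : Dual F V} {v w : V} (h1 : φ v = 0) (h2 : ψ w = 0) (h0 : ψ v = 0)
    (h3 : (φ w • ψ) v = 0) : tv h1 * tv h2 * (tv h1)⁻¹ * (tv h2)⁻¹ = tv h3 := by
  rw [mul_inv_eq_iff_eq_mul, mul_inv_eq_iff_eq_mul]
  apply act.injective
  ext1 x
  simp only [map_mul, LinearEquiv.mul_apply, act_tv_apply]
  simp only [map_add, map_smul, h1, h2, h0, LinearMap.smul_apply, smul_eq_mul, mul_zero, add_zero]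
  (module)

/-- `Rt M φ v`: the whole root subgroup with centre `v` and form `φ` lies in `M`. -/
def Rt (M : Subgroup (GL ι F)) (φ : Dual F V) (v : V) : Prop :=
  φ v = 0 ∧ ∀ (c : F) (h : (c • φ) v = 0), tv h ∈ M

variable {M : Subgroup (GL ι F)}

theorem Rt.smul {φ : Dual F V} {v : V} (hr : Rt M φ v) (a : F) : Rt M (a • φ) v := by
  refine ⟨by simp [hr.1], fun c h => ?_⟩
  have h' : ((c * a) • φ) v = 0 := by simp [hr.1]
  have := hr.2 (c * a) h'
  rwa [tv_congr h' h (by rw [smul_smul]) rfl] at this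

theorem Rt.add {φ φ' : Dual F V} {v : V} (hr : Rt M φ v) (hr' : Rt M φ' v) : Rt M (φ + φ') v := by
  refine ⟨by simp [hr.1, hr'.1], fun c h => ?_⟩
  have h1 : (c • φ) v = 0 := by simp [hr.1]
  have h2 : (c • φ') v = 0 := by simp [hr'.1]
  have h3 : (c • φ + c • φ') v = 0 := by simp [hr.1, hr'.1]
  have := M.mul_mem (hr.2 c h1) (hr'.2 c h2)
  rw [tv_mul_form h1 h2 h3] at this
  rwa [tv_congr h3 h (by rw [smul_add]) rfl] at this

theorem Rt.sub {φ φ' : Dual F V} {v : V} (hr : Rt M φ v) (hr' : Rt M φ' v) : Rt M (φ - φ') v := by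
  have := hr.add (hr'.smul (-1))
  have e : φ + (-1 : F) • φ' = φ - φ' := by
    refine LinearMap.ext fun x => ?_
    simp [sub_eq_add_neg]
  rwa [e] at this

theorem Rt.smul_center {φ : Dual F V} {v : V} (hr : Rt M φ v) (a : F) : Rt M φ (a • v) := by
  refine ⟨by simp [hr.1], fun c h => ?_⟩
  have h' : ((c * a) • φ) v = 0 := by simp [hr.1]
  have := hr.2 (c * a) h'
  have e : tv h' = tv h := by
    apply act.injective
    ext1 x
    rw [act_tv_apply, act_tv_apply]
    simp only [LinearMap.smul_apply, smul_eq_mul]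
    (module)
  rwa [e] at this

theorem Rt.add_center {φ : Dual F V} {v w : V} (hr : Rt M φ v) (hr' : Rt M φ w) : Rt M φ (v + w) := by
  refine ⟨by simp [hr.1, hr'.1], fun c h => ?_⟩
  have h1 : (c • φ) v = 0 := by simp [hr.1]
  have h2 : (c • φ) w = 0 := by simp [hr'.1]
  have := M.mul_mem (hr.2 c h1) (hr'.2 c h2)
  rwa [tv_mul_center h1 h2 h] at this

theorem rt_zero_center (φ : Dual F V) : Rt M φ (0 : V) := by
  refine ⟨by simp, fun c h => ?_⟩
  rw [tv_zero_center]
  exact M.one_mem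

theorem rt_zero_form (v : V) : Rt M (0 : Dual F V) v := by
  refine ⟨by simp, fun c h => ?_⟩
  have : tv h = tv (φ := 0) (v := v) (by simp) := tv_congr _ _ (by simp) rfl
  rw [this, tv_zero_form]
  exact M.one_mem

/-- conjugation -/
theorem Rt.conj {φ : Dual F V} {v : V} (hr : Rt M φ v) {g : GL ι F} (hg : g ∈ M) :
    Rt M (φ ∘ₗ ((act g⁻¹ : V ≃ₗ[F] V) : V →ₗ[F] V)) (act g v) := by
  have h0 : (φ ∘ₗ ((act g⁻¹ : V ≃ₗ[F] V) : V →ₗ[F] V)) (act g v) = 0 := by
    show φ (act g⁻¹ (act g v)) = 0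
    rw [← act_inv_apply]
    simpa using hr.1
  refine ⟨h0, fun c h => ?_⟩
  have h1 : (c • φ) v = 0 := by simp [hr.1]
  obtain ⟨h2, h3⟩ := conj_tv h1 g
  have := M.mul_mem (M.mul_mem hg (hr.2 c h1)) (M.inv_mem hg)
  rw [h3] at this
  exact (tv_congr h2 h rfl rfl) ▸ this

/-- from the two commutator relations: the centre of the first, the form of the second. -/
theorem Rt.comm {φ ψ : Dual F V} {v w : V} (hr : Rt M φ v) (h2 : ψ w = 0) (hm : tv h2 ∈ M)
    (h0 : ψ v = 0) (hne : φ w ≠ 0) : Rt M ψ v := by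
  refine ⟨h0, fun c h => ?_⟩
  have h1 : ((c * (φ w)⁻¹) • φ) v = 0 := by simp [hr.1]
  have h3 : ((((c * (φ w)⁻¹) • φ) w) • ψ) v = 0 := by simp [h0]
  have hc := tv_comm h1 h2 h0 h3
  have hmem := M.mul_mem (M.mul_mem (M.mul_mem (hr.2 _ h1) hm) (M.inv_mem (hr.2 _ h1))) (M.inv_mem hm)
  rw [hc] at hmem
  have e : (((c * (φ w)⁻¹) • φ) w) • ψ = c • ψ := by
    congr 1
    simp [hne]
  exact (tv_congr h3 h e rfl) ▸ hmem

/-- the other commutator relation: the centre of the second, the form of the first -/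
theorem Rt.comm' {φ ψ : Dual F V} {v w : V} (hr : Rt M φ v) (h2 : ψ w = 0) (hm : tv h2 ∈ M)
    (h0 : φ w = 0) (hne : ψ v ≠ 0) : Rt M φ w := by
  refine ⟨h0, fun c h => ?_⟩
  have h1 : ((c * (ψ v)⁻¹) • φ) v = 0 := by simp [hr.1]
  have h3 : ((ψ v) • ((c * (ψ v)⁻¹) • φ)) w = 0 := by simp [h0]
  have hc := tv_comm h2 h1 (by simp [h0]) h3
  have hmem := M.mul_mem (M.mul_mem (M.mul_mem hm (hr.2 _ h1)) (M.inv_mem hm)) (M.inv_mem (hr.2 _ h1))
  rw [hc] at hmem
  have e : (ψ v) • ((c * (ψ v)⁻¹) • φ) = c • φ := by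
    rw [smul_smul]
    congr 1
    field_simp
  exact (tv_congr h3 h e rfl) ▸ hmem

/-- A subgroup containing all root subgroups contains `SL`. -/
theorem specialLinear_le_of_rt [Nontrivial ι]
    (h : ∀ (φ : Dual F V) (v : V), φ v = 0 → Rt M φ v) : Cfsg.Geo.specialLinear ι F ≤ M := by
  apply specialLinear_le_of_tv
  intro φ v hv
  have h1 : (((1 : F) • φ)) v = 0 := by simp [hv]
  have h2 := (h φ v hv).2 1 h1
  rwa [tv_congr h1 hv (one_smul _ _) rfl] at h2

theorem exists_not_mem_two {φ ψ : Dual F V} (h1 : φ ≠ 0) (h2 : ψ ≠ 0) : ∃ w : V, φ w ≠ 0 ∧ ψ w ≠ 0 := by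
  obtain ⟨a, ha⟩ : ∃ a, φ a ≠ 0 := by
    by_contra hcon
    push Not at hcon
    exact h1 (LinearMap.ext hcon)
  obtain ⟨b, hb⟩ : ∃ b, ψ b ≠ 0 := by
    by_contra hcon
    push Not at hcon
    exact h2 (LinearMap.ext hcon)
  by_cases h3 : ψ a = 0
  · by_cases h4 : φ b = 0
    · refine ⟨a + b, ?_, ?_⟩
      · simp [h4, ha]
      · simp [h3, hb]
    · exact ⟨b, h4, hb⟩
  · exact ⟨a, ha, h3⟩

end Cfsg.Agent.Lib.Geo
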