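import Mathlib
import Cfsg.Agent.Lib.Geo.SesqSolve

set_option autoImplicit false

/-! Two non-proportional hermitian forms: at some isotropic vector of the first the two linear
forms are not proportional. -/

namespace Cfsg.Agent.Lib.Geo

open Module

variable {ι : Type} [Fintype ι] [DecidableEq ι] {F : Type*} [Field F]

local notation "V" => (ι → F)

theorem exists_sep {W : Type*} [AddCommGroup W] [Module F W] {φ ψ : Dual F W} (hφ : φ ≠ 0)
    (h : ¬ ∃ c : F, ψ = c • φ) : ∃ x, φ x = 0 ∧ ψ x ≠ 0 := by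
  by_contra hcon
  push Not at hcon
  obtain ⟨y, hy⟩ : ∃ y, φ y ≠ 0 := by
    by_contra h0
    push Not at h0
    exact hφ (LinearMap.ext h0)
  apply h
  refine ⟨ψ y / φ y, LinearMap.ext fun x => ?_⟩
  have h1 := hcon (x - (φ x / φ y) • y) (by
    simp only [map_sub, map_smul, smul_eq_mul]
    field_simp
    ring)
  simp only [map_sub, map_smul, smul_eq_mul, LinearMap.smul_apply] at h1 ⊢
  field_simp at h1 ⊢
  linear_combination h1

variable {σ : F →+* F} {f f' : (ι → F) → (ι → F) → F} [Finite F]

theorem exists_iso_not_prop (hf : SForm σ f) (hf' : SForm σ f')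
    (hiso : ∀ W : Submodule F (ι → F), 3 ≤ finrank F W → ∃ x ∈ W, x ≠ 0 ∧ f x x = 0)
    (htr : ∀ a, σ a = a → ∃ b, b + σ b = a) (hn : 13 ≤ Fintype.card ι)
    (hne : ¬ ∃ c : F, ∀ x y, f' x y = c * f x y) :
    ∃ v, v ≠ 0 ∧ f v v = 0 ∧ ¬ ∃ c : F, hf'.lf v = c • hf.lf v := by
  by_contra hcon
  push Not at hcon
  have hσinj : Function.Injective σ := σ.injective
  have key : ∀ (p r : V) (c d : F), hf'.lf p = c • hf.lf p → hf'.lf r = d • hf.lf r → p ≠ 0 →
      f p p = 0 → f r r = 0 → f p r = 0 → (∀ a : F, r ≠ a • p) → c = d := by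
    intro p r c d hc hd hp0 hpp hrr hpr hind
    have hrp : f r p = 0 := hf.eq_zero_flip hpr
    have hne0 : p + r ≠ 0 := by
      intro h
      apply hind (-1)
      rw [neg_one_smul]
      exact (neg_eq_of_add_eq_zero_right h).symm
    obtain ⟨e, he⟩ := hcon (p + r) hne0 (by
      simp only [hf.add_left, hf.add_right, hpp, hrr, hpr, hrp, add_zero])
    rw [hf'.lf_add, hf.lf_add, hc, hd] at he
    have h1 : hf.lf (σ (c - e) • p + σ (d - e) • r) = 0 := by
      rw [hf.lf_add, hf.lf_smul, hf.lf_smul, hf.inv, hf.inv]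
      refine LinearMap.ext fun x => ?_
      have := LinearMap.congr_fun he x
      simp only [LinearMap.add_apply, LinearMap.smul_apply, smul_eq_mul, LinearMap.zero_apply] at this ⊢
      linear_combination this
    have h2 : σ (c - e) • p + σ (d - e) • r = 0 := by
      by_contra h0
      exact hf.lf_ne_zero h0 h1
    have h3 : d - e = 0 := by
      by_contra h4
      have h5 : σ (d - e) ≠ 0 := by
        intro h6
        apply h4
        apply hσinj
        rw [h6, map_zero]
      apply hind (-(σ (d - e))⁻¹ * σ (c - e))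
      have h7 : σ (d - e) • r = -(σ (c - e) • p) := eq_neg_of_add_eq_zero_right h2
      calc r = (σ (d - e))⁻¹ • (σ (d - e) • r) := by rw [smul_smul, inv_mul_cancel₀ h5, one_smul]
        _ = _ := by
          rw [h7, smul_neg, smul_smul, ← neg_smul]
          congr 1
          ring
    rw [h3, map_zero, zero_smul, add_zero] at h2
    have h8 : σ (c - e) = 0 := (smul_eq_zero.1 h2).resolve_right hp0
    have h9 : c - e = 0 := hσinj (by rw [h8, map_zero])
    rw [sub_eq_zero] at h3 h9
    rw [h9, h3]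
  have key2 : ∀ (p r : V) (c d : F), hf'.lf p = c • hf.lf p → hf'.lf r = d • hf.lf r → p ≠ 0 →
      r ≠ 0 → f p p = 0 → f r r = 0 → c = d := by
    intro p r c d hc hd hp0 hr0 hpp hrr
    set A : Submodule F V := Submodule.span F {p, r} with hA
    obtain ⟨E, hE⟩ := Submodule.exists_isCompl A
    have h1 := Submodule.finrank_add_eq_of_isCompl hE
    have hV : finrank F V = Fintype.card ι := by simp
    have hAle : finrank F A ≤ 2 := by
      classical
      have := finrank_span_finset_le_card (R := F) ({p, r} : Finset V)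
      have h3 : (({p, r} : Finset V) : Set V) = {p, r} := by simp
      rw [h3] at this
      exact this.trans Finset.card_le_two
    have h2 := finrank_cutL [hf.lf p, hf.lf r]
    have h4 := Submodule.finrank_sup_add_finrank_inf_eq E (cutL [hf.lf p, hf.lf r])
    have h5 : finrank F ↥(E ⊔ cutL [hf.lf p, hf.lf r]) ≤ finrank F V := Submodule.finrank_le _
    simp only [List.length_cons, List.length_nil] at h2
    obtain ⟨x, hx, hx0, hxx⟩ := hiso (E ⊓ cutL [hf.lf p, hf.lf r]) (by omega)
    have hxc := mem_cutL.1 hx.2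
    have hxp : f x p = 0 := hxc (hf.lf p) (by simp)
    have hxr : f x r = 0 := hxc (hf.lf r) (by simp)
    have hnotA : x ∉ A := by
      intro hin
      have : x ∈ A ⊓ E := ⟨hin, hx.1⟩
      rw [hE.inf_eq_bot] at this
      exact hx0 this
    obtain ⟨e, he⟩ := hcon x hx0 hxx
    have h6 : c = e := key p x c e hc he hp0 hpp hxx (hf.eq_zero_flip hxp) (fun a ha => hnotA (by
      rw [ha]
      exact A.smul_mem _ (Submodule.subset_span (by simp))))
    have h7 : d = e := key r x d e hd he hr0 hrr hxx (hf.eq_zero_flip hxr) (fun a ha => hnotA (by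
      rw [ha]
      exact A.smul_mem _ (Submodule.subset_span (by simp))))
    rw [h6, h7]
  obtain ⟨p₀, -, hp₀, hp₀p⟩ := hiso ⊤ (by
    rw [finrank_top]
    simp only [finrank_fintype_fun_eq_card]
    omega)
  obtain ⟨c₀, hc₀⟩ := hcon p₀ hp₀ hp₀p
  have hall : ∀ p : V, f p p = 0 → hf'.lf p = c₀ • hf.lf p := by
    intro p hp
    by_cases hp0 : p = 0
    · subst hp0
      refine LinearMap.ext fun x => ?_
      simp [hf.zero_right, hf'.zero_right]
    obtain ⟨c, hc⟩ := hcon p hp0 hp
    rw [hc, key2 p p₀ c c₀ hc hc₀ hp0 hp₀ hp hp₀p]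
  apply hne
  refine ⟨c₀, fun y x => ?_⟩
  obtain ⟨p, -, hp, hp'⟩ := exists_iso_decomp hf hiso htr [] (by simp; omega) (x := x) (by simp)
  have h1 := hall p hp
  have h2 := hall (x - p) hp'
  have h3 : x = p + (x - p) := by abel
  have h4 : hf'.lf x = c₀ • hf.lf x := by
    rw [h3, hf'.lf_add, hf.lf_add, h1, h2, smul_add]
  exact LinearMap.congr_fun h4 y

end Cfsg.Agent.Lib.Geo
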