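import Mathlib
import Cfsg.Agent.Lib.Geo.SesqProp
import Cfsg.Agent.Lib.Geo.RootElts

set_option autoImplicit false

/-! The similarity group of a hermitian form is maximal in `SL`. -/

namespace Cfsg.Agent.Lib.Geo

open scoped MatrixGroups Matrix
open Module

variable {ι : Type} [Fintype ι] [DecidableEq ι] {F : Type*} [Field F]

local notation "V" => (ι → F)

variable {σ : F →+* F} {f : (ι → F) → (ι → F) → F}

theorem act_inv_act (g : GL ι F) (w : V) : act g⁻¹ (act g w) = w := by
  rw [← act_inv_apply]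
  simp

theorem act_act_inv (g : GL ι F) (w : V) : act g (act g⁻¹ w) = w := by
  have := act_inv_act g⁻¹ w
  rwa [inv_inv] at this

/-- unitary transvections are isometries -/
theorem utv_mem (hf : SForm σ f) {v : V} (hv : f v v = 0) {c : F} (hc : c + σ c = 0)
    (h : (c • hf.lf v) v = 0) :
    tv h ∈ Cfsg.Geo.similarityGroup f ⊓ Cfsg.Geo.specialLinear ι F := by
  refine ⟨⟨1, fun x y => ?_⟩, tv_mem_SL h⟩
  have e : ∀ x : V, ((tv h : GL ι F) : Matrix ι ι F) *ᵥ x = x + (c * f x v) • v := by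
    intro x
    rw [← act_apply, act_tv_apply]
    rfl
  rw [e, e]
  simp only [hf.add_left, hf.add_right, hf.smul_left, hf.smul_right, hv, mul_zero, add_zero,
    Units.val_one, one_mul, map_mul]
  have h1 : f v y = σ (f y v) := hf.herm _ _
  rw [h1]
  linear_combination (f x v * σ (f y v)) * hc

theorem lf_self_smul (hf : SForm σ f) {v : V} (hv : f v v = 0) (c : F) : (c • hf.lf v) v = 0 := by
  simp [hv]

/-- Transvections with the same centre: difference. -/
theorem tv_sub_mem {M : Subgroup (GL ι F)} {φ ψ : Dual F V} {v : V} (h1 : φ v = 0) (h2 : ψ v = 0)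
    (h3 : (φ - ψ) v = 0) (m1 : tv h1 ∈ M) (m2 : tv h2 ∈ M) : tv h3 ∈ M := by
  have h4 : (-ψ) v = 0 := by simp [h2]
  have h5 : (φ + -ψ) v = 0 := by simp [h1, h2]
  have := M.mul_mem m1 (M.inv_mem m2)
  rw [tv_inv h2 h4, tv_mul_form h1 h4 h5] at this
  exact (tv_congr h5 h3 (sub_eq_add_neg φ ψ).symm rfl) ▸ this

section

variable [Finite F] {M : Subgroup (GL ι F)}

/-- Step E : from a non-hermitian root subgroup to all root subgroups with the same centre. -/
theorem all_forms_of_rt (hf : SForm σ f)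
    (hiso : ∀ W : Submodule F (ι → F), 3 ≤ finrank F W → ∃ x ∈ W, x ≠ 0 ∧ f x x = 0)
    (htr : ∀ a, σ a = a → ∃ b, b + σ b = a) (hn : 13 ≤ Fintype.card ι)
    (hH : ∀ (z : V) (_ : f z z = 0) (c : F) (_ : c + σ c = 0) (h : (c • hf.lf z) z = 0), tv h ∈ M)
    {δ : F} (hδ : δ ≠ 0) (hδ' : δ + σ δ = 0)
    {v : V} {φ : Dual F V} (hv0 : v ≠ 0) (hr : Rt M φ v) (hind : ¬ ∃ c : F, φ = c • hf.lf v) :
    ∀ ψ : Dual F V, ψ v = 0 → Rt M ψ v := by
  -- the submodule of good vectors
  let S : Submodule F V :=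
    { carrier := {y | Rt M (hf.lf y) v}
      add_mem' := fun {a b} ha hb => by
        show Rt M (hf.lf (a + b)) v
        rw [hf.lf_add]
        exact Rt.add ha hb
      zero_mem' := by
        show Rt M (hf.lf 0) v
        have : hf.lf (0 : V) = 0 := LinearMap.ext fun x => hf.zero_right x
        rw [this]
        exact rt_zero_form v
      smul_mem' := fun c x hx => by
        show Rt M (hf.lf (c • x)) v
        rw [hf.lf_smul]
        exact Rt.smul hx _ }
  have hS : ∀ y, f v y = 0 → y ∈ S := by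
    intro y hy
    by_contra hyS
    obtain ⟨α, hα1, hα2⟩ := exists_dual_of_notMem hyS
    have hyv : f y v = 0 := hf.eq_zero_flip hy
    obtain ⟨x₁, hx₁, hx₁'⟩ := exists_sep (hf.lf_ne_zero hv0) hind
    have hx₁v : f x₁ v = 0 := hx₁
    obtain ⟨y₀, hy₀v, hy₀α, hy₀φ⟩ : ∃ y₀, f y₀ v = 0 ∧ α y₀ ≠ 0 ∧ φ y₀ ≠ 0 := by
      by_cases h1 : φ y = 0
      · by_cases h2 : α x₁ = 0
        · exact ⟨y + x₁, by rw [hf.add_left, hyv, hx₁v, add_zero], by simp [hα1, h2],
            by simp [h1, hx₁']⟩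
        · exact ⟨x₁, hx₁v, h2, hx₁'⟩
      · exact ⟨y, hyv, by simp [hα1], h1⟩
    obtain ⟨z, hz1, hz2⟩ := affine_solve hf hiso htr [hf.lf v, α, φ] (by simp; omega) y₀ (e := 0)
      (map_zero σ)
    have hzv : f z v = 0 := by
      have := hz1 (hf.lf v) (by simp)
      simp only [SForm.lf_apply] at this
      rw [this, hy₀v]
    have hzα : α z ≠ 0 := by
      have := hz1 α (by simp)
      rwa [this]
    have hzφ : φ z ≠ 0 := by
      have := hz1 φ (by simp)
      rwa [this]
    apply hzα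
    apply hα2
    show Rt M (hf.lf z) v
    have h3 := lf_self_smul hf hz2 δ
    have h4 : Rt M (δ • hf.lf z) v := by
      refine hr.comm h3 (hH z hz2 δ hδ' h3) ?_ hzφ
      simp [hf.eq_zero_flip hzv]
    have h5 := h4.smul δ⁻¹
    rwa [smul_smul, inv_mul_cancel₀ hδ, one_smul] at h5
  intro ψ hψ
  obtain ⟨y, rfl⟩ := hf.lf_surjective ψ
  exact hS y hψ

/-- Step F : moving the centre. -/
theorem all_forms_move (hf : SForm σ f)
    (hiso : ∀ W : Submodule F (ι → F), 3 ≤ finrank F W → ∃ x ∈ W, x ≠ 0 ∧ f x x = 0)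
    (htr : ∀ a, σ a = a → ∃ b, b + σ b = a) (hn : 13 ≤ Fintype.card ι)
    (hH : ∀ (z : V) (_ : f z z = 0) (c : F) (_ : c + σ c = 0) (h : (c • hf.lf z) z = 0), tv h ∈ M)
    {δ : F} (hδ : δ ≠ 0) (hδ' : δ + σ δ = 0)
    {v u : V} (hP : ∀ ψ : Dual F V, ψ v = 0 → Rt M ψ v) (huu : f u u = 0) (huv : f u v ≠ 0) :
    ∀ ψ : Dual F V, ψ u = 0 → Rt M ψ u := by
  have hu0 : u ≠ 0 := by
    rintro rfl
    exact huv (hf.zero_left v)
  obtain ⟨μ, hμ1, -⟩ := exists_dual_of_notMem (S := (⊥ : Submodule F V)) (u := u) (by simpa using hu0)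
  obtain ⟨r, hr, hr0, -⟩ := hiso (cutL [hf.lf u, hf.lf v, μ]) (by
    have := finrank_cutL [hf.lf u, hf.lf v, μ]
    simp only [List.length_cons, List.length_nil] at this
    omega)
  rw [mem_cutL] at hr
  have hru : f r u = 0 := hr (hf.lf u) (by simp)
  have hrv : f r v = 0 := hr (hf.lf v) (by simp)
  have hrμ : μ r = 0 := hr μ (by simp)
  have h3 := lf_self_smul hf huu δ
  have h1 : Rt M (hf.lf r) u := by
    refine Rt.comm' (hP _ (hf.eq_zero_flip hrv)) h3 (hH u huu δ hδ' h3) (hf.eq_zero_flip hru) ?_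
    simp only [LinearMap.smul_apply, SForm.lf_apply, smul_eq_mul]
    exact mul_ne_zero hδ (fun h => huv (hf.eq_zero_flip h))
  refine all_forms_of_rt hf hiso htr hn hH hδ hδ' hu0 h1 ?_
  rintro ⟨c, hc⟩
  have h4 : hf.lf r = hf.lf (σ c • u) := by
    rw [hc, hf.lf_smul, hf.inv]
  have h5 := hf.lf_injective h4
  apply hr0
  rw [h5] at hrμ ⊢
  rw [map_smul, hμ1, smul_eq_mul, mul_one] at hrμ
  rw [hrμ, zero_smul]

/-- Final steps. -/
theorem le_of_all_forms (hf : SForm σ f)
    (hiso : ∀ W : Submodule F (ι → F), 3 ≤ finrank F W → ∃ x ∈ W, x ≠ 0 ∧ f x x = 0)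
    (htr : ∀ a, σ a = a → ∃ b, b + σ b = a) (hn : 13 ≤ Fintype.card ι)
    (hH : ∀ (z : V) (_ : f z z = 0) (c : F) (_ : c + σ c = 0) (h : (c • hf.lf z) z = 0), tv h ∈ M)
    {δ : F} (hδ : δ ≠ 0) (hδ' : δ + σ δ = 0)
    {v : V} (hv0 : v ≠ 0) (hP : ∀ ψ : Dual F V, ψ v = 0 → Rt M ψ v) :
    Cfsg.Geo.specialLinear ι F ≤ M := by
  haveI : Nontrivial ι := Fintype.one_lt_card_iff_nontrivial.1 (by omega)
  have hiso_all : ∀ u : V, f u u = 0 → ∀ ψ : Dual F V, ψ u = 0 → Rt M ψ u := by
    intro u huu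
    by_cases hu0 : u = 0
    · subst hu0
      exact fun ψ _ => rt_zero_center ψ
    by_cases huv : f u v = 0
    · obtain ⟨y₀, hy1, hy2⟩ := exists_not_mem_two (hf.lf_ne_zero hv0) (hf.lf_ne_zero hu0)
      obtain ⟨r, hr1, hr2⟩ := affine_solve hf hiso htr [hf.lf v, hf.lf u] (by simp; omega) y₀ (e := 0)
        (map_zero σ)
      have h1 : f r v ≠ 0 := by
        have := hr1 (hf.lf v) (by simp)
        simp only [SForm.lf_apply] at this hy1
        rwa [this]
      have h2 : f r u ≠ 0 := by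
        have := hr1 (hf.lf u) (by simp)
        simp only [SForm.lf_apply] at this hy2
        rwa [this]
      have hPr := all_forms_move hf hiso htr hn hH hδ hδ' hP hr2 h1
      exact all_forms_move hf hiso htr hn hH hδ hδ' hPr huu (fun h => h2 (hf.eq_zero_flip h))
    · exact all_forms_move hf hiso htr hn hH hδ hδ' hP huu huv
  apply specialLinear_le_of_rt
  intro φ x hφ
  obtain ⟨p, hp1, hp2, hp3⟩ := exists_iso_decomp hf hiso htr [φ] (by simp; omega) (x := x) (by simpa using hφ)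
  have hφp : φ p = 0 := hp1 φ (by simp)
  have h3 := hiso_all p hp2 φ hφp
  have h4 := hiso_all (x - p) hp3 φ (by simp [hφ, hφp])
  have h5 := h3.add_center h4
  rwa [add_sub_cancel] at h5

end

/-- The transported form. -/
theorem SForm.transport {f : (ι → F) → (ι → F) → F} (hf : SForm σ f) (g : GL ι F) :
    SForm σ (fun x y => f (act g x) (act g y)) where
  inv := hf.inv
  add_left x y v := by
    simp only [map_add, hf.add_left]
  smul_left c x v := by
    simp only [map_smul, hf.smul_left]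
  herm v w := hf.herm _ _
  nd v hv := by
    obtain ⟨x, hx⟩ := hf.nd (act g v) (fun h => hv ((act g).map_eq_zero_iff.1 h))
    refine ⟨act g⁻¹ x, ?_⟩
    show f (act g (act g⁻¹ x)) (act g v) ≠ 0
    rwa [act_act_inv]

theorem isMaximalIn_unitary_sim [Finite F] (hf : SForm σ f) (hσ : σ ≠ RingHom.id F)
    (hn : 13 ≤ Fintype.card ι) :
    Cfsg.Geo.IsMaximalIn (Cfsg.Geo.specialLinear ι F)
      (Cfsg.Geo.similarityGroup f ⊓ Cfsg.Geo.specialLinear ι F) := by
  have hiso : ∀ {f : (ι → F) → (ι → F) → F}, SForm σ f → ∀ W : Submodule F (ι → F), 3 ≤ finrank F W →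
      ∃ x ∈ W, x ≠ 0 ∧ f x x = 0 := fun h W hW => hiso_herm h hσ W hW
  have htr : ∀ a, σ a = a → ∃ b, b + σ b = a := fun a ha => htr_herm hσ hf.inv a ha
  obtain ⟨δ, hδ, hδ'⟩ : ∃ δ : F, δ ≠ 0 ∧ δ + σ δ = 0 := by
    obtain ⟨a, ha⟩ : ∃ a, σ a ≠ a := by
      by_contra hcon
      push Not at hcon
      exact hσ (RingHom.ext hcon)
    refine ⟨a - σ a, sub_ne_zero.2 (Ne.symm ha), ?_⟩
    rw [map_sub, hf.inv]
    ring
  constructor
  · -- proper
    refine lt_of_le_of_ne inf_le_right ?_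
    intro heq
    obtain ⟨a, ha⟩ : ∃ a, a + σ a ≠ 0 := by
      obtain ⟨b, hb⟩ := htr 1 (map_one σ)
      exact ⟨b, by rw [hb]; exact one_ne_zero⟩
    obtain ⟨v, -, hv0, hvv⟩ := hiso hf ⊤ (by
      rw [finrank_top]
      simp only [finrank_fintype_fun_eq_card]
      omega)
    have h0 : (a • hf.lf v) v = 0 := lf_self_smul hf hvv a
    have hmem : tv h0 ∈ Cfsg.Geo.similarityGroup f ⊓ Cfsg.Geo.specialLinear ι F := by
      rw [heq]
      exact tv_mem_SL h0
    obtain ⟨c, hc⟩ := hmem.1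
    have e : ∀ x : V, ((tv h0 : GL ι F) : Matrix ι ι F) *ᵥ x = x + (a * f x v) • v := by
      intro x
      rw [← act_apply, act_tv_apply]
      rfl
    have hc' : ∀ x y, f x y + (a + σ a) * f x v * f v y = c * f x y := by
      intro x y
      have := hc x y
      rw [e, e] at this
      simp only [hf.add_left, hf.add_right, hf.smul_left, hf.smul_right, hvv, mul_zero, add_zero,
        map_mul] at this
      rw [← this]
      have h1 : f v y = σ (f y v) := hf.herm _ _
      rw [h1]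
      ring
    -- the factor is one
    obtain ⟨p₁, hp₁, p₂, hp₂, -, h12⟩ := exists_hyp hf (hiso hf) (cutL [hf.lf v]) (by
      have := finrank_cutL [hf.lf v]
      simp only [List.length_cons, List.length_nil] at this
      omega)
    have hp1v : f p₁ v = 0 := mem_cutL.1 hp₁ (hf.lf v) (by simp)
    have hc1 : (c : F) = 1 := by
      have h1 := hc' p₁ p₂
      rw [hp1v] at h1
      have h2 : ((c : F) - 1) * f p₁ p₂ = 0 := by linear_combination -h1
      exact sub_eq_zero.1 ((mul_eq_zero.1 h2).resolve_right h12)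
    obtain ⟨x, hx⟩ := hf.nd v hv0
    have h1 := hc' x x
    rw [hc1] at h1
    have h2 : (a + σ a) * f x v * f v x = 0 := by linear_combination h1
    have h3 : f v x ≠ 0 := fun h => hx (hf.eq_zero_flip h)
    exact mul_ne_zero (mul_ne_zero ha hx) h3 h2
  · intro M hM1 hM2
    by_cases hMH : M = Cfsg.Geo.similarityGroup f ⊓ Cfsg.Geo.specialLinear ι F
    · exact Or.inl hMH
    right
    obtain ⟨g, hgM, hgH⟩ : ∃ g ∈ M, g ∉ Cfsg.Geo.similarityGroup f ⊓ Cfsg.Geo.specialLinear ι F := by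
      by_contra hcon
      push Not at hcon
      exact hMH (le_antisymm hcon hM1)
    have hgS : g ∉ Cfsg.Geo.similarityGroup f := fun h => hgH ⟨h, hM2 hgM⟩
    -- the unitary transvections in `M`
    have hH : ∀ (z : V) (_ : f z z = 0) (c : F) (_ : c + σ c = 0) (h : (c • hf.lf z) z = 0), tv h ∈ M :=
      fun z hz c hc h => hM1 (utv_mem hf hz hc h)
    -- the second form
    have hf' := hf.transport g⁻¹
    set f' : V → V → F := fun x y => f (act g⁻¹ x) (act g⁻¹ y) with hf'def
    have hne : ¬ ∃ c : F, ∀ x y, f' x y = c * f x y := by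
      rintro ⟨c, hc⟩
      have hc0 : c ≠ 0 := by
        rintro rfl
        obtain ⟨v, -, hv0, -⟩ := hiso hf ⊤ (by
          rw [finrank_top]
          simp only [finrank_fintype_fun_eq_card]
          omega)
        obtain ⟨x, hx⟩ := hf'.nd v hv0
        exact hx (by rw [hc, zero_mul])
      apply hgS
      refine ⟨(Units.mk0 c hc0)⁻¹, fun u v => ?_⟩
      have h1 := hc (act g u) (act g v)
      simp only [hf'def, act_inv_act] at h1
      show f (act g u) (act g v) = _
      rw [Units.val_inv_eq_inv_val, Units.val_mk0, h1]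
      field_simp
    have hH' : ∀ (z : V) (_ : f' z z = 0) (c : F) (_ : c + σ c = 0) (h : (c • hf'.lf z) z = 0), tv h ∈ M := by
      intro z hz c hc h
      have h1 : (c • hf.lf (act g⁻¹ z)) (act g⁻¹ z) = 0 := lf_self_smul hf hz c
      have h2 := hH _ hz c hc h1
      obtain ⟨h3, h4⟩ := conj_tv h1 g
      have h5 := M.mul_mem (M.mul_mem hgM h2) (M.inv_mem hgM)
      rw [h4] at h5
      refine (tv_congr h3 h ?_ (act_act_inv g z)) ▸ h5
      refine LinearMap.ext fun x => ?_
      rfl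
    -- step A
    obtain ⟨v, hv0, hvv, hvind⟩ := exists_iso_not_prop hf hf' (hiso hf) htr hn hne
    -- step B
    have hsep : ¬ ∃ c : F, hf.lf v = c • hf'.lf v := by
      rintro ⟨c, hc⟩
      apply hvind
      refine ⟨c⁻¹, ?_⟩
      have hc0 : c ≠ 0 := by
        rintro rfl
        rw [zero_smul] at hc
        exact hf.lf_ne_zero hv0 hc
      rw [hc, smul_smul, inv_mul_cancel₀ hc0, one_smul]
    obtain ⟨y₀, hy₀1, hy₀2⟩ := exists_sep (hf'.lf_ne_zero hv0) hsep
    obtain ⟨w, hw1, hw2⟩ := affine_solve hf' (hiso hf') htr [hf'.lf v, hf.lf v] (by simp; omega) y₀ (e := 0)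
      (map_zero σ)
    have hwv' : f' w v = 0 := by
      have := hw1 (hf'.lf v) (by simp)
      simp only [SForm.lf_apply] at this hy₀1
      rw [this, hy₀1]
    have hwv : f w v ≠ 0 := by
      have := hw1 (hf.lf v) (by simp)
      simp only [SForm.lf_apply] at this hy₀2
      rwa [this]
    -- step C
    obtain ⟨z, hz⟩ := hf'.lf_surjective (hf.lf v)
    have hz0 : z ≠ 0 := by
      rintro rfl
      apply hf.lf_ne_zero hv0
      rw [← hz]
      exact LinearMap.ext fun x => hf'.zero_right x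
    obtain ⟨μ, hμ1, -⟩ := exists_dual_of_notMem (S := (⊥ : Submodule F V)) (u := z) (by simpa using hz0)
    obtain ⟨s, hs, hs0, hss⟩ := hiso hf' (cutL [hf'.lf w, hf'.lf v, hf.lf v, μ]) (by
      have := finrank_cutL [hf'.lf w, hf'.lf v, hf.lf v, μ]
      simp only [List.length_cons, List.length_nil] at this
      omega)
    rw [mem_cutL] at hs
    have hsw : f' s w = 0 := hs (hf'.lf w) (by simp)
    have hsv' : f' s v = 0 := hs (hf'.lf v) (by simp)
    have hsv : f s v = 0 := hs (hf.lf v) (by simp)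
    have hsμ : μ s = 0 := hs μ (by simp)
    have hind : ¬ ∃ c : F, hf'.lf s = c • hf.lf v := by
      rintro ⟨c, hc⟩
      have h4 : hf'.lf s = hf'.lf (σ c • z) := by
        rw [hc, hf'.lf_smul, hf.inv, hz]
      have h5 := hf'.lf_injective h4
      apply hs0
      rw [h5] at hsμ ⊢
      rw [map_smul, hμ1, smul_eq_mul, mul_one] at hsμ
      rw [hsμ, zero_smul]
    -- step D
    have hw' : f' w w = 0 := hw2
    have hrt : Rt M (hf'.lf s) v := by
      refine ⟨hf'.eq_zero_flip hsv', fun d hd => ?_⟩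
      -- the family of commutators
      have comm : ∀ μ : F, ∃ (h : ((δ * f w v * δ) • (hf'.lf (w + μ • s))) v = 0),
          tv h ∈ M := by
        intro μ
        set w' : V := w + μ • s with hw'def
        have hw'1 : f' w' w' = 0 := by
          simp only [hw'def, hf'.add_left, hf'.add_right, hf'.smul_left, hf'.smul_right, hw', hss, hsw,
            hf'.eq_zero_flip hsw, mul_zero, add_zero]
        have hw'2 : f w' v = f w v := by
          simp only [hw'def, hf.add_left, hf.smul_left, hsv, mul_zero, add_zero]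
        have hw'3 : f' v w' = 0 := by
          simp only [hw'def, hf'.add_right, hf'.smul_right, hf'.eq_zero_flip hsv', hf'.eq_zero_flip hwv',
            mul_zero, add_zero]
        have h1 : (δ • hf.lf v) v = 0 := lf_self_smul hf hvv δ
        have h2 : (δ • hf'.lf w') w' = 0 := lf_self_smul hf' hw'1 δ
        have h0 : (δ • hf'.lf w') v = 0 := by simp [hw'3]
        have h3 : (((δ • hf.lf v) w') • (δ • hf'.lf w')) v = 0 := by simp [hw'3]
        have hc := tv_comm h1 h2 h0 h3
        have hmem := M.mul_mem (M.mul_mem (M.mul_mem (hH v hvv δ hδ' h1) (hH' w' hw'1 δ hδ' h2))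
          (M.inv_mem (hH v hvv δ hδ' h1))) (M.inv_mem (hH' w' hw'1 δ hδ' h2))
        rw [hc] at hmem
        have e : ((δ • hf.lf v) w') • (δ • hf'.lf w') = (δ * f w v * δ) • hf'.lf w' := by
          simp only [LinearMap.smul_apply, SForm.lf_apply, smul_eq_mul, hw'2, smul_smul]
        refine ⟨by simp [hw'3], (tv_congr h3 _ e rfl) ▸ hmem⟩
      set κ := δ * f w v * δ with hκ
      have hκ0 : κ ≠ 0 := mul_ne_zero (mul_ne_zero hδ hwv) hδ
      obtain ⟨h5, m5⟩ := comm (σ (d / κ))
      obtain ⟨h6, m6⟩ := comm 0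
      have h7 : ((κ • hf'.lf (w + σ (d / κ) • s)) - (κ • hf'.lf (w + (0 : F) • s))) v = 0 := by
        rw [LinearMap.sub_apply, h5, h6, sub_zero]
      have m7 := tv_sub_mem h5 h6 h7 m5 m6
      have e : (κ • hf'.lf (w + σ (d / κ) • s)) - (κ • hf'.lf (w + (0 : F) • s)) = d • hf'.lf s := by
        refine LinearMap.ext fun x => ?_
        simp only [LinearMap.sub_apply, LinearMap.smul_apply, SForm.lf_apply, smul_eq_mul,
          hf'.add_right, hf'.smul_right, hf.inv]
        rw [map_zero]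
        field_simp
        ring
      exact (tv_congr h7 hd e rfl) ▸ m7
    have hP := all_forms_of_rt hf (hiso hf) htr hn hH hδ hδ' hv0 hrt hind
    exact le_antisymm hM2 (le_of_all_forms hf (hiso hf) htr hn hH hδ hδ' hv0 hP)

end Cfsg.Agent.Lib.Geo
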