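import Mathlib
import Cfsg.Agent.Lib.Geo.SymIso
import Cfsg.Agent.Lib.Geo.UnitarySim
import Cfsg.Agent.Lib.Geo.QuadFn
import Cfsg.Agent.Lib.Classical.Isometry

set_option autoImplicit false

/-! The similarity group of a quadratic form in odd characteristic is maximal in `SL`. -/

namespace Cfsg.Agent.Lib.Geo

open scoped MatrixGroups Matrix
open Module

variable {ι : Type} [Fintype ι] [DecidableEq ι] {F : Type*} [Field F]

local notation "V" => (ι → F)

section basics

variable {Q : (ι → F) → F} (hQ : Cfsg.Geo.IsNondegenerateQuadraticForm Q)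

include hQ in
/-- the polar form as an `SForm` -/
theorem sform_of_quad : SForm (RingHom.id F) (QuadraticMap.polar Q) where
  inv _ := rfl
  add_left := hQ.polar_bilinear.add_left
  smul_left := hQ.polar_bilinear.smul_left
  herm v w := QuadraticMap.polar_comm _ _ _
  nd v hv := (hQ.nondegenerate v hv).1

omit [Fintype ι] [DecidableEq ι] in
theorem Q_add' (u v : V) : Q (u + v) = Q u + Q v + QuadraticMap.polar Q u v := by
  rw [QuadraticMap.polar]
  ring

include hQ in
theorem Q_zero' : Q (0 : V) = 0 := by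
  have := hQ.smul 0 (0 : V)
  simpa using this

include hQ in
theorem polar_self' (x : V) : QuadraticMap.polar Q x x = 2 * Q x := by
  rw [QuadraticMap.polar]
  have : x + x = (2 : F) • x := by rw [two_smul]
  rw [this, hQ.smul]
  ring

include hQ in
theorem Q_smul' (c : F) (x : V) : Q (c • x) = c * c * Q x := by
  rw [hQ.smul]
  ring

include hQ in
/-- Transport of a quadratic form. -/
theorem quad_transport (g : GL ι F) : Cfsg.Geo.IsNondegenerateQuadraticForm (fun x => Q (act g x)) where
  smul c v := by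
    simp only [map_smul, hQ.smul]
  polar_bilinear := by
    have e : ∀ x y, QuadraticMap.polar (fun x => Q (act g x)) x y =
        QuadraticMap.polar Q (act g x) (act g y) := by
      intro x y
      simp only [QuadraticMap.polar, map_add]
    refine ⟨fun x y v => ?_, fun c x v => ?_, fun v x y => ?_, fun c v x => ?_⟩
    · simp only [e, map_add, hQ.polar_bilinear.add_left]
    · simp only [e, map_smul, hQ.polar_bilinear.smul_left]
    · simp only [e, map_add, hQ.polar_bilinear.add_right]
    · simp only [e, map_smul, hQ.polar_bilinear.smul_right]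
  nondegenerate := by
    intro v hv
    have e : ∀ x y, QuadraticMap.polar (fun x => Q (act g x)) x y =
        QuadraticMap.polar Q (act g x) (act g y) := by
      intro x y
      simp only [QuadraticMap.polar, map_add]
    have hgv : act g v ≠ 0 := fun h => hv ((act g).map_eq_zero_iff.1 h)
    obtain ⟨⟨x, hx⟩, ⟨y, hy⟩⟩ := hQ.nondegenerate _ hgv
    refine ⟨⟨act g⁻¹ x, ?_⟩, ⟨act g⁻¹ y, ?_⟩⟩
    · rwa [e, act_act_inv]
    · rwa [e, act_act_inv]

end basics

section siegel

variable {Q : (ι → F) → F} (hQ : Cfsg.Geo.IsNondegenerateQuadraticForm Q)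

/-- the rank-two elements (Siegel transformations) -/
noncomputable def siegel (hB : SForm (RingHom.id F) (QuadraticMap.polar Q)) {v u : V}
    (h1 : hB.lf u v = 0) (h2 : (-hB.lf v) u = 0) : GL ι F := tv h1 * tv h2

include hQ in
theorem siegel_mem (hB : SForm (RingHom.id F) (QuadraticMap.polar Q)) {v u : V}
    (h1 : hB.lf u v = 0) (h2 : (-hB.lf v) u = 0) (hv : Q v = 0) (hu : Q u = 0) :
    siegel hB h1 h2 ∈ Cfsg.Geo.quadSimilarityGroup Q ⊓ Cfsg.Geo.specialLinear ι F := by
  refine ⟨⟨1, fun x => ?_⟩, (Cfsg.Geo.specialLinear ι F).mul_mem (tv_mem_SL h1) (tv_mem_SL h2)⟩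
  show Q (act (tv h1 * tv h2) x) = _
  have huu : QuadraticMap.polar Q u u = 0 := by rw [polar_self' hQ, hu, mul_zero]
  have hvu : QuadraticMap.polar Q v u = 0 := h1
  have e : act (tv h1 * tv h2) x = x + (QuadraticMap.polar Q x u) • v + (-QuadraticMap.polar Q x v) • u := by
    rw [map_mul, LinearEquiv.mul_apply, act_tv_apply, act_tv_apply]
    have h3 : hB.lf u (x + (-hB.lf v) x • u) = QuadraticMap.polar Q x u := by
      simp only [SForm.lf_apply, hB.add_left, hB.smul_left, huu, mul_zero, add_zero]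
    rw [h3]
    simp only [LinearMap.neg_apply, SForm.lf_apply]
    abel
  rw [e, Q_add' (Q := Q), Q_add' (Q := Q), Q_smul' hQ, Q_smul' hQ, hv, hu]
  simp only [hB.add_left, hB.add_right, hB.smul_left, hB.smul_right, RingHom.id_apply]
  simp only [Units.val_one, one_mul, hvu]
  ring

end siegel

/-- commutators of two rank-two elements. -/
theorem comm2 {α β γ δ : Dual F V} {v u a b : V} (hαv : α v = 0) (hβu : β u = 0) (hαu : α u = 0)
    (hβv : β v = 0) (hγa : γ a = 0) (hδb : δ b = 0) (hγb : γ b = 0) (hδa : δ a = 0) (hγv : γ v = 0)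
    (hγu : γ u = 0) (hδv : δ v = 0) (hδu : δ u = 0) (hαa : α a = 1) (hαb : α b = 0) (hβa : β a = 0)
    (hβb : β b = 0) :
    (tv hαv * tv hβu) * (tv hγa * tv hδb) * (tv hαv * tv hβu)⁻¹ * (tv hγa * tv hδb)⁻¹ = tv hγv := by
  rw [mul_inv_eq_iff_eq_mul, mul_inv_eq_iff_eq_mul]
  apply act.injective
  ext1 x
  simp only [map_mul, LinearEquiv.mul_apply, act_tv_apply]
  simp only [map_add, map_smul, hαv, hβu, hαu, hβv, hγa, hδb, hγb, hδa, hγv, hγu, hδv, hδu, hαa, hαb,
    hβa, hβb, smul_eq_mul, mul_zero, add_zero, zero_add, mul_one]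
  (module)

section witt

variable {Q : (ι → F) → F} (hQ : Cfsg.Geo.IsNondegenerateQuadraticForm Q)

include hQ in
/-- Isometries of the form: correct the determinant by a reflection. -/
theorem exists_SO (h2 : (2 : F) ≠ 0) (e : V ≃ₗ[F] V) (he : ∀ v, Q (e v) = Q v) {a : V}
    (ha : Q a ≠ 0) : ∃ k : GL ι F, k ∈ Cfsg.Geo.specialLinear ι F ∧ (∀ v, Q (act k v) = Q v) ∧
      ∀ x, QuadraticMap.polar Q x a = 0 → act k x = e x := by
  classical
  let Qb := bundleQ hQ
  have hnd := bundleQ_nondeg hQ
  have hdet : ∀ k : GL ι F, (∀ v, Q (act k v) = Q v) → (k : Matrix ι ι F).det = 1 ∨ (k : Matrix ι ι F).det = -1 := by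
    intro k hk
    exact Cfsg.Agent.Lib.Classical.det_sq_eq_one Qb hnd _ hk
  -- the reflection
  let r0 : V →ₗ[F] V := Cfsg.Agent.Lib.Classical.Witt.quadRefl Qb a (-(Qb a)⁻¹)
  have hr0 : ∀ v, Qb (r0 v) = Qb v := Cfsg.Agent.Lib.Classical.Witt.quadRefl_pres Qb a ha
  let r : V ≃ₗ[F] V := Cfsg.Agent.Lib.Classical.Witt.quadEquiv Qb hnd r0 hr0
  have hrapply : ∀ x, r x = x + (-(Qb a)⁻¹ * QuadraticMap.polar Q a x) • a := by
    intro x
    exact Cfsg.Agent.Lib.Classical.Witt.quadRefl_apply Qb a _ x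
  -- determinant of the reflection
  have hrdet : (act.symm r : GL ι F).1.det = -1 := by
    have h3 : LinearMap.det ((act (act.symm r) : V ≃ₗ[F] V) : V →ₗ[F] V) = (act.symm r : GL ι F).1.det :=
      det_act _
    rw [← h3, MulEquiv.apply_symm_apply]
    have h4 : ((r : V ≃ₗ[F] V) : V →ₗ[F] V) =
        LinearMap.transvection ((-(Qb a)⁻¹) • (QuadraticMap.polarBilin Qb a)) a := by
      refine LinearMap.ext fun x => ?_
      show r x = _
      rw [hrapply, LinearMap.transvection.apply]
      rfl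
    rw [h4, LinearMap.transvection.det]
    show 1 + (-(Q a)⁻¹ * QuadraticMap.polar Q a a) = -1
    rw [polar_self' hQ]
    have : Q a ≠ 0 := ha
    field_simp
    ring
  by_cases hd : (act.symm e : GL ι F).1.det = 1
  · refine ⟨act.symm e, ?_, ?_, ?_⟩
    · rw [mem_SL_iff, det_act]
      exact hd
    · intro v
      rw [MulEquiv.apply_symm_apply, he]
    · intro x _
      rw [MulEquiv.apply_symm_apply]
  · have h5 : (act.symm e : GL ι F).1.det = -1 := by
      refine (hdet _ ?_).resolve_left hd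
      intro v
      rw [MulEquiv.apply_symm_apply, he]
    refine ⟨act.symm e * act.symm r, ?_, ?_, ?_⟩
    · rw [mem_SL_iff, det_act, Units.val_mul, Matrix.det_mul, h5, hrdet]
      ring
    · intro v
      rw [map_mul, MulEquiv.apply_symm_apply, MulEquiv.apply_symm_apply, LinearEquiv.mul_apply, he]
      exact hr0 v
    · intro x hx
      rw [map_mul, MulEquiv.apply_symm_apply, MulEquiv.apply_symm_apply, LinearEquiv.mul_apply, hrapply]
      rw [show QuadraticMap.polar Q a x = QuadraticMap.polar Q x a from QuadraticMap.polar_comm _ _ _, hx]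
      simp

include hQ in
/-- Witt: mapping two vectors. -/
theorem exists_isometry₂ {v z z' : V} (hz : z ∉ Submodule.span F {v}) (hz' : z' ∉ Submodule.span F {v})
    (hQz : Q z = Q z') (hv : Q v = 0) (h1 : QuadraticMap.polar Q v z = 0)
    (h2 : QuadraticMap.polar Q v z' = 0) :
    ∃ e : V ≃ₗ[F] V, (∀ x, Q (e x) = Q x) ∧ e v = v ∧ e z = z' := by
  obtain ⟨e, he1, he2, he3⟩ := Cfsg.Agent.Lib.Classical.Witt.core_quad (bundleQ hQ) (bundleQ_nondeg hQ)
    (Submodule.span F {v}) z z' hz hz' (by
      intro p hp s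
      obtain ⟨c, rfl⟩ := Submodule.mem_span_singleton.1 hp
      show Q _ = Q _
      have hB := sform_of_quad hQ
      rw [Q_add' (Q := Q), Q_add' (Q := Q), Q_smul' hQ, Q_smul' hQ, Q_smul' hQ, hv, hQz]
      simp only [hB.smul_left, hB.smul_right, h1, h2, RingHom.id_apply, mul_zero])
  exact ⟨e, he1, he2 v (Submodule.mem_span_singleton_self v), he3⟩

end witt

section main

variable [Fintype F] {Q : (ι → F) → F} (hQ : Cfsg.Geo.IsNondegenerateQuadraticForm Q)
  (h2 : (2 : F) ≠ 0) (hn : 13 ≤ Fintype.card ι)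

include hQ h2 hn in
theorem isMaximalIn_orth_sim : Cfsg.Geo.IsMaximalIn (Cfsg.Geo.specialLinear ι F)
      (Cfsg.Geo.quadSimilarityGroup Q ⊓ Cfsg.Geo.specialLinear ι F) := by
  have hB := sform_of_quad hQ
  have htr : ∀ a, (RingHom.id F) a = a → ∃ b, b + (RingHom.id F) b = a := fun a _ =>
    ⟨a / 2, by
      simp only [RingHom.id_apply]
      field_simp
      ring⟩
  have hiso : ∀ {f : (ι → F) → (ι → F) → F}, SForm (RingHom.id F) f → ∀ W : Submodule F (ι → F), 3 ≤ finrank F W →
      ∃ x ∈ W, x ≠ 0 ∧ f x x = 0 := fun h W hW => hiso_sym h W hW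
  have hzero : ∀ {Q₁ : (ι → F) → F}, Cfsg.Geo.IsNondegenerateQuadraticForm Q₁ → ∀ x : V,
      QuadraticMap.polar Q₁ x x = 0 → Q₁ x = 0 := by
    intro Q₁ h₁ x hx
    rw [polar_self' h₁] at hx
    exact (mul_eq_zero.1 hx).resolve_left h2
  have hpolar : ∀ {Q₁ : (ι → F) → F}, Cfsg.Geo.IsNondegenerateQuadraticForm Q₁ → ∀ x : V,
      Q₁ x = 0 → QuadraticMap.polar Q₁ x x = 0 := by
    intro Q₁ h₁ x hx
    rw [polar_self' h₁, hx, mul_zero]
  have htop : 3 ≤ finrank F (⊤ : Submodule F V) := by
    rw [finrank_top]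
    simp only [finrank_fintype_fun_eq_card]
    omega
  obtain ⟨v₀, -, hv₀0, hv₀⟩ := hiso hB ⊤ htop
  constructor
  · refine lt_of_le_of_ne inf_le_right ?_
    intro heq
    have h0 : (hB.lf v₀) v₀ = 0 := hv₀
    have hmem : tv h0 ∈ Cfsg.Geo.quadSimilarityGroup Q ⊓ Cfsg.Geo.specialLinear ι F := by
      rw [heq]
      exact tv_mem_SL h0
    obtain ⟨c, hc⟩ := hmem.1
    have e : ∀ x : V, Q (x) + QuadraticMap.polar Q x v₀ * QuadraticMap.polar Q x v₀ = c * Q x := by
      intro x
      have h1 : Q (act (tv h0) x) = c * Q x := hc x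
      rw [act_tv_apply, Q_add' (Q := Q), Q_smul' hQ, hzero hQ _ hv₀] at h1
      simp only [SForm.lf_apply, hB.smul_right, RingHom.id_apply] at h1
      rw [← h1]
      ring
    obtain ⟨x₀, hx1, hx2⟩ := affine_solve hB (hiso hB) htr [hB.lf v₀] (by simp; omega) 0 (e := 2) rfl
    have hx₀v : QuadraticMap.polar Q x₀ v₀ = 0 := by
      have := hx1 (hB.lf v₀) (by simp)
      simpa [hB.zero_left] using this
    have hx₀ : Q x₀ = 1 := by
      rw [polar_self' hQ] at hx2
      exact mul_left_cancel₀ h2 (by rw [hx2, mul_one])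
    have hc1 : (c : F) = 1 := by
      have := e x₀
      rw [hx₀v, hx₀] at this
      linear_combination -this
    obtain ⟨x, hx⟩ := hB.nd v₀ hv₀0
    have := e x
    rw [hc1] at this
    apply hx
    have h3 : QuadraticMap.polar Q x v₀ * QuadraticMap.polar Q x v₀ = 0 := by linear_combination this
    exact mul_self_eq_zero.1 h3
  · intro M hM1 hM2
    by_cases hMH : M = Cfsg.Geo.quadSimilarityGroup Q ⊓ Cfsg.Geo.specialLinear ι F
    · exact Or.inl hMH
    right
    obtain ⟨g, hgM, hgH⟩ : ∃ g ∈ M, g ∉ Cfsg.Geo.quadSimilarityGroup Q ⊓ Cfsg.Geo.specialLinear ι F := by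
      by_contra hcon
      push Not at hcon
      exact hMH (le_antisymm hcon hM1)
    have hgS : g ∉ Cfsg.Geo.quadSimilarityGroup Q := fun h => hgH ⟨h, hM2 hgM⟩
    -- the second form
    have hQ' := quad_transport hQ g⁻¹
    set Q' : V → F := fun x => Q (act g⁻¹ x) with hQ'def
    have hB' := sform_of_quad hQ'
    have hne : ¬ ∃ c : F, ∀ x y, QuadraticMap.polar Q' x y = c * QuadraticMap.polar Q x y := by
      rintro ⟨c, hc⟩
      have hc' : ∀ x, Q' x = c * Q x := by
        intro x
        have h3 := hc x x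
        rw [polar_self' hQ', polar_self' hQ] at h3
        apply mul_left_cancel₀ h2
        rw [h3]
        ring
      have hc0 : c ≠ 0 := by
        rintro rfl
        obtain ⟨x₀, -, hx₂⟩ := affine_solve hB (hiso hB) htr [] (by simp; omega) 0 (e := 2) rfl
        have h3 := hc' (act g x₀)
        rw [polar_self' hQ] at hx₂
        have h4 : Q x₀ = 1 := mul_left_cancel₀ h2 (by rw [hx₂, mul_one])
        simp only [hQ'def, act_inv_act, zero_mul] at h3
        rw [h4] at h3
        exact one_ne_zero h3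
      apply hgS
      refine ⟨(Units.mk0 c hc0)⁻¹, fun u => ?_⟩
      have h3 := hc' (act g u)
      simp only [hQ'def, act_inv_act] at h3
      show Q (act g u) = _
      rw [Units.val_inv_eq_inv_val, Units.val_mk0, h3]
      field_simp
    have hM' : ∀ Y, Y ∈ Cfsg.Geo.quadSimilarityGroup Q' ⊓ Cfsg.Geo.specialLinear ι F → Y ∈ M := by
      rintro Y ⟨⟨c, hc⟩, hY⟩
      have h3 : g⁻¹ * Y * g ∈ Cfsg.Geo.quadSimilarityGroup Q ⊓ Cfsg.Geo.specialLinear ι F := by
        refine ⟨⟨c, fun x => ?_⟩, ?_⟩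
        · show Q (act (g⁻¹ * Y * g) x) = _
          have h4 : Q' (act Y (act g x)) = c * Q' (act g x) := hc _
          simp only [hQ'def, act_inv_act] at h4
          rw [map_mul, map_mul, LinearEquiv.mul_apply, LinearEquiv.mul_apply]
          exact h4
        · exact (Cfsg.Geo.specialLinear ι F).mul_mem ((Cfsg.Geo.specialLinear ι F).mul_mem
            ((Cfsg.Geo.specialLinear ι F).inv_mem (hM2 hgM)) hY) (hM2 hgM)
      have h4 := M.mul_mem (M.mul_mem hgM (hM1 h3)) (M.inv_mem hgM)
      have e : g * (g⁻¹ * Y * g) * g⁻¹ = Y := by group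
      rwa [e] at h4
    -- the configuration
    obtain ⟨u, hu0, huu, huind⟩ := exists_iso_not_prop hB hB' (hiso hB) htr hn hne
    have hsep : ¬ ∃ c : F, hB.lf u = c • hB'.lf u := by
      rintro ⟨c, hc⟩
      apply huind
      refine ⟨c⁻¹, ?_⟩
      have hc0 : c ≠ 0 := by
        rintro rfl
        rw [zero_smul] at hc
        exact hB.lf_ne_zero hu0 hc
      rw [hc, smul_smul, inv_mul_cancel₀ hc0, one_smul]
    obtain ⟨y₀, hy₀1, hy₀2⟩ := exists_sep (hB'.lf_ne_zero hu0) hsep
    obtain ⟨a, ha1, haa'⟩ := affine_solve hB' (hiso hB') htr [hB'.lf u, hB.lf u] (by simp; omega)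
      ((hB.lf u y₀)⁻¹ • y₀) (e := 0) rfl
    have hau' : QuadraticMap.polar Q' a u = 0 := by
      have := ha1 (hB'.lf u) (by simp)
      simp only [SForm.lf_apply, map_smul, smul_eq_mul] at this hy₀1
      rw [this, hy₀1, mul_zero]
    have hau : QuadraticMap.polar Q a u = 1 := by
      have := ha1 (hB.lf u) (by simp)
      simp only [SForm.lf_apply, hB.smul_left] at this hy₀2
      rw [this]
      field_simp
    obtain ⟨v, hv, hv0, hvv⟩ := hiso hB (cutL [hB.lf u, hB.lf a, hB'.lf a]) (by
      have := finrank_cutL [hB.lf u, hB.lf a, hB'.lf a]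
      simp only [List.length_cons, List.length_nil] at this
      omega)
    rw [mem_cutL] at hv
    have hvu : QuadraticMap.polar Q v u = 0 := hv (hB.lf u) (by simp)
    have hva : QuadraticMap.polar Q v a = 0 := hv (hB.lf a) (by simp)
    have hva' : QuadraticMap.polar Q' v a = 0 := hv (hB'.lf a) (by simp)
    obtain ⟨z, hz⟩ := hB'.lf_surjective (hB.lf v)
    have hz0 : z ≠ 0 := by
      rintro rfl
      apply hB.lf_ne_zero hv0
      rw [← hz]
      exact LinearMap.ext fun x => hB'.zero_right x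
    obtain ⟨μ, hμ1, -⟩ := exists_dual_of_notMem (S := (⊥ : Submodule F V)) (u := z) (by simpa using hz0)
    obtain ⟨b, hb, hb0, hbb'⟩ := hiso hB' (cutL [hB'.lf a, hB.lf u, hB.lf v, hB'.lf v, hB'.lf u, μ]) (by
      have := finrank_cutL [hB'.lf a, hB.lf u, hB.lf v, hB'.lf v, hB'.lf u, μ]
      simp only [List.length_cons, List.length_nil] at this
      omega)
    rw [mem_cutL] at hb
    have hba' : QuadraticMap.polar Q' b a = 0 := hb (hB'.lf a) (by simp)
    have hbu : QuadraticMap.polar Q b u = 0 := hb (hB.lf u) (by simp)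
    have hbv : QuadraticMap.polar Q b v = 0 := hb (hB.lf v) (by simp)
    have hbv' : QuadraticMap.polar Q' b v = 0 := hb (hB'.lf v) (by simp)
    have hbu' : QuadraticMap.polar Q' b u = 0 := hb (hB'.lf u) (by simp)
    have hbμ : μ b = 0 := hb μ (by simp)
    have hind : ¬ ∃ c : F, hB'.lf b = c • hB.lf v := by
      rintro ⟨c, hc⟩
      have h4 : hB'.lf b = hB'.lf (c • z) := by
        rw [hc, hB'.lf_smul, hz]
        rfl
      have h5 := hB'.lf_injective h4
      apply hb0
      rw [h5] at hbμ ⊢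
      rw [map_smul, hμ1, smul_eq_mul, mul_one] at hbμ
      rw [hbμ, zero_smul]
    -- the first root subgroup
    have hrt : Rt M (hB'.lf b) v := by
      refine ⟨hB'.eq_zero_flip hbv', fun d hd => ?_⟩
      have hαv : (hB.lf u) v = 0 := hvu
      have hβu : (-hB.lf v) u = 0 := by
        simp only [LinearMap.neg_apply, SForm.lf_apply, hB.eq_zero_flip hvu, neg_zero]
      have hαu : (hB.lf u) u = 0 := huu
      have hβv : (-hB.lf v) v = 0 := by
        simp only [LinearMap.neg_apply, SForm.lf_apply, hvv, neg_zero]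
      have hγa : (hB'.lf (d • b)) a = 0 := by
        simp only [SForm.lf_apply, hB'.smul_right, hB'.eq_zero_flip hba', mul_zero]
      have hδb : (-hB'.lf a) (d • b) = 0 := by
        simp only [LinearMap.neg_apply, SForm.lf_apply, hB'.smul_left, hba', mul_zero, neg_zero]
      have hγb : (hB'.lf (d • b)) (d • b) = 0 := by
        simp only [SForm.lf_apply, hB'.smul_right, hB'.smul_left, hbb', mul_zero]
      have hδa : (-hB'.lf a) a = 0 := by
        simp only [LinearMap.neg_apply, SForm.lf_apply, haa', neg_zero]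
      have hγv : (hB'.lf (d • b)) v = 0 := by
        simp only [SForm.lf_apply, hB'.smul_right, hB'.eq_zero_flip hbv', mul_zero]
      have hγu : (hB'.lf (d • b)) u = 0 := by
        simp only [SForm.lf_apply, hB'.smul_right, hB'.eq_zero_flip hbu', mul_zero]
      have hδv : (-hB'.lf a) v = 0 := by
        simp only [LinearMap.neg_apply, SForm.lf_apply, hva', neg_zero]
      have hδu : (-hB'.lf a) u = 0 := by
        simp only [LinearMap.neg_apply, SForm.lf_apply, hB'.eq_zero_flip hau', neg_zero]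
      have hαb : (hB.lf u) (d • b) = 0 := by
        simp only [SForm.lf_apply, hB.smul_left, hbu, mul_zero]
      have hβa : (-hB.lf v) a = 0 := by
        simp only [LinearMap.neg_apply, SForm.lf_apply, hB.eq_zero_flip hva, neg_zero]
      have hβb : (-hB.lf v) (d • b) = 0 := by
        simp only [LinearMap.neg_apply, SForm.lf_apply, hB.smul_left, hbv, mul_zero, neg_zero]
      have hX : tv hαv * tv hβu ∈ M := hM1 (siegel_mem hQ hB hαv hβu (hzero hQ _ hvv) (hzero hQ _ huu))
      have hY : tv hγa * tv hδb ∈ M := hM' _ (siegel_mem hQ' hB' hγa hδb (hzero hQ' _ haa')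
        (hzero hQ' _ hγb))
      have hc := comm2 hαv hβu hαu hβv hγa hδb hγb hδa hγv hγu hδv hδu hau hαb hβa hβb
      have hmem := M.mul_mem (M.mul_mem (M.mul_mem hX hY) (M.inv_mem hX)) (M.inv_mem hY)
      rw [hc] at hmem
      have e : hB'.lf (d • b) = d • hB'.lf b := hB'.lf_smul d b
      exact (tv_congr hγv hd e rfl) ▸ hmem
    -- representative of the form
    obtain ⟨z₀, hz₀⟩ := hB.lf_surjective (hB'.lf b)
    rw [← hz₀] at hrt hind
    have hspan : ∀ z : V, (¬ ∃ c : F, hB.lf z = c • hB.lf v) → z ∉ Submodule.span F {v} := by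
      intro z hz hin
      obtain ⟨c, rfl⟩ := Submodule.mem_span_singleton.1 hin
      exact hz ⟨c, hB.lf_smul c v⟩
    have hpres : ∀ k : GL ι F, (∀ x, Q (act k x) = Q x) → ∀ x y,
        QuadraticMap.polar Q (act k x) (act k y) = QuadraticMap.polar Q x y := by
      intro k hk x y
      simp only [QuadraticMap.polar, ← map_add, hk]
    have hmemk : ∀ k : GL ι F, k ∈ Cfsg.Geo.specialLinear ι F → (∀ x, Q (act k x) = Q x) → k ∈ M := by
      intro k h1 h3
      exact hM1 ⟨⟨1, fun x => by
        show Q (act k x) = _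
        rw [h3]
        simp⟩, h1⟩
    have hval2 : ∀ {x : V}, QuadraticMap.polar Q x x = 2 → Q x = 1 := by
      intro x hx
      rw [polar_self' hQ] at hx
      exact mul_left_cancel₀ h2 (by rw [hx, mul_one])
    -- moving the form
    have rt_move : ∀ z z' : V, Rt M (hB.lf z) v → z ∉ Submodule.span F {v} →
        z' ∉ Submodule.span F {v} → Q z = Q z' → QuadraticMap.polar Q v z' = 0 →
        Rt M (hB.lf z') v := by
      intro z z' hr hz hz' hQz hz'v
      have hvz : QuadraticMap.polar Q v z = 0 := hr.1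
      obtain ⟨e, he1, he2, he3⟩ := exists_isometry₂ hQ hz hz' hQz (hzero hQ _ hvv) hvz hz'v
      obtain ⟨a₀, ha₁, ha₂⟩ := affine_solve hB (hiso hB) htr [hB.lf v, hB.lf z] (by simp; omega) 0
        (e := 2) rfl
      have h3 : QuadraticMap.polar Q a₀ v = 0 := by
        have := ha₁ (hB.lf v) (by simp)
        simpa [hB.zero_left] using this
      have h4 : QuadraticMap.polar Q a₀ z = 0 := by
        have := ha₁ (hB.lf z) (by simp)
        simpa [hB.zero_left] using this
      obtain ⟨k, hk1, hk2, hk3⟩ := exists_SO hQ h2 e he1 (a := a₀) (by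
        rw [hval2 ha₂]
        exact one_ne_zero)
      have hkv : act k v = v := by rw [hk3 v (hB.eq_zero_flip h3), he2]
      have hkz : act k z = z' := by rw [hk3 z (hB.eq_zero_flip h4), he3]
      have h5 := hr.conj (hmemk k hk1 hk2)
      rw [hkv] at h5
      have e4 : (hB.lf z) ∘ₗ ((act k⁻¹ : V ≃ₗ[F] V) : V →ₗ[F] V) = hB.lf z' := by
        refine LinearMap.ext fun x => ?_
        show QuadraticMap.polar Q (act k⁻¹ x) z = QuadraticMap.polar Q x z'
        have := hpres k hk2 (act k⁻¹ x) z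
        rw [act_act_inv, hkz] at this
        exact this.symm
      rwa [e4] at h5
    obtain ⟨z₁, hz₁Q, hz₁⟩ : ∃ z₁, Q z₁ ≠ 0 ∧ Rt M (hB.lf z₁) v := by
      by_cases hd : Q z₀ = 0
      · obtain ⟨y₂, hy₂1, hy₂2⟩ := exists_sep (hB.lf_ne_zero hv0) hind
        obtain ⟨z'', h1, h3⟩ := affine_solve hB (hiso hB) htr [hB.lf v, hB.lf z₀] (by simp; omega)
          ((hB.lf z₀ y₂)⁻¹ • y₂) (e := 0) rfl
        have h4 : QuadraticMap.polar Q z'' v = 0 := by
          have := h1 (hB.lf v) (by simp)
          simp only [SForm.lf_apply, map_smul, smul_eq_mul] at this hy₂1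
          rw [this, hy₂1, mul_zero]
        have h5 : QuadraticMap.polar Q z'' z₀ = 1 := by
          have := h1 (hB.lf z₀) (by simp)
          simp only [SForm.lf_apply, hB.smul_left] at this hy₂2
          rw [this]
          field_simp
        have hnot : z'' ∉ Submodule.span F {v} := by
          intro hin
          obtain ⟨c, rfl⟩ := Submodule.mem_span_singleton.1 hin
          rw [hB.smul_left] at h5
          have h6 : QuadraticMap.polar Q v z₀ = 0 := hrt.1
          rw [h6, mul_zero] at h5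
          exact zero_ne_one h5
        have hr2 := rt_move z₀ z'' hrt (hspan z₀ hind) hnot (by rw [hd, hzero hQ _ h3])
          (hB.eq_zero_flip h4)
        refine ⟨z₀ + z'', ?_, ?_⟩
        · rw [Q_add' (Q := Q), hd, hzero hQ _ h3, hB.herm, h5]
          simp
        · rw [hB.lf_add]
          exact hrt.add hr2
      · exact ⟨z₀, hd, hrt⟩
    have hnospan : ∀ w : V, Q w = Q z₁ → w ∉ Submodule.span F {v} := by
      intro w hw hin
      obtain ⟨c, rfl⟩ := Submodule.mem_span_singleton.1 hin
      rw [Q_smul' hQ, hzero hQ _ hvv, mul_zero] at hw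
      exact hz₁Q hw.symm
    have hPy : ∀ y, QuadraticMap.polar Q v y = 0 → Rt M (hB.lf y) v := by
      intro y hy
      obtain ⟨z₂, h1, h3⟩ := affine_solve hB (hiso hB) htr [hB.lf v, hB.lf y] (by simp; omega)
        ((-(1 / 2) : F) • y) (e := 2 * Q z₁) rfl
      have h4 : QuadraticMap.polar Q z₂ v = 0 := by
        have := h1 (hB.lf v) (by simp)
        simp only [SForm.lf_apply, hB.smul_left, hB.eq_zero_flip hy, mul_zero] at this
        exact this
      have h5 : QuadraticMap.polar Q z₂ y = - Q y := by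
        have := h1 (hB.lf y) (by simp)
        simp only [SForm.lf_apply, hB.smul_left] at this
        rw [this, polar_self' hQ]
        field_simp
      have h6 : Q z₂ = Q z₁ := by
        rw [polar_self' hQ] at h3
        exact mul_left_cancel₀ h2 h3
      have h7 := rt_move z₁ z₂ hz₁ (hnospan z₁ rfl) (hnospan z₂ h6) h6.symm (hB.eq_zero_flip h4)
      have h8 : Q (z₂ + y) = Q z₁ := by
        rw [Q_add' (Q := Q), h5, h6]
        ring
      have h9 := rt_move z₁ (z₂ + y) hz₁ (hnospan z₁ rfl) (hnospan _ h8) h8.symm (by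
        rw [hB.add_right, hB.eq_zero_flip h4, hy, add_zero])
      have h10 := h9.sub h7
      rwa [← hB.lf_sub, add_sub_cancel_left] at h10
    have hPv : ∀ ψ : Dual F V, ψ v = 0 → Rt M ψ v := by
      intro ψ hψ
      obtain ⟨y, rfl⟩ := hB.lf_surjective ψ
      exact hPy y hψ
    have hPu : ∀ u' : V, Q u' = 0 → ∀ ψ : Dual F V, ψ u' = 0 → Rt M ψ u' := by
      intro u' hu' ψ hψ
      by_cases hu0' : u' = 0
      · subst hu0'
        exact rt_zero_center ψ
      obtain ⟨e, he1, he2⟩ := exists_isometry hQ hv0 hu0' (by rw [hzero hQ _ hvv, hu'])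
      obtain ⟨a₀, ha₁, ha₂⟩ := affine_solve hB (hiso hB) htr [hB.lf v] (by simp; omega) 0 (e := 2) rfl
      have h3 : QuadraticMap.polar Q a₀ v = 0 := by
        have := ha₁ (hB.lf v) (by simp)
        simpa [hB.zero_left] using this
      obtain ⟨k, hk1, hk2, hk3⟩ := exists_SO hQ h2 e he1 (a := a₀) (by
        rw [hval2 ha₂]
        exact one_ne_zero)
      have hkv : act k v = u' := by rw [hk3 v (hB.eq_zero_flip h3), he2]
      have h4 : Rt M (ψ ∘ₗ ((act k : V ≃ₗ[F] V) : V →ₗ[F] V)) v := hPv _ (by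
        show ψ (act k v) = 0
        rw [hkv, hψ])
      have h5 := h4.conj (hmemk k hk1 hk2)
      rw [hkv] at h5
      have e5 : (ψ ∘ₗ ((act k : V ≃ₗ[F] V) : V →ₗ[F] V)) ∘ₗ ((act k⁻¹ : V ≃ₗ[F] V) : V →ₗ[F] V) = ψ := by
        refine LinearMap.ext fun x => ?_
        show ψ (act k (act k⁻¹ x)) = ψ x
        rw [act_act_inv]
      rwa [e5] at h5
    refine le_antisymm hM2 ?_
    haveI : Nontrivial ι := Fintype.one_lt_card_iff_nontrivial.1 (by omega)
    apply specialLinear_le_of_rt
    intro φ x hφ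
    obtain ⟨p, hp1, hp2, hp3⟩ := exists_iso_decomp hB (hiso hB) htr [φ] (by simp; omega) (x := x)
      (by simpa using hφ)
    have hφp : φ p = 0 := hp1 φ (by simp)
    have h3 := hPu p (hzero hQ _ hp2) φ hφp
    have h4 := hPu (x - p) (hzero hQ _ hp3) φ (by simp [hφ, hφp])
    have h5 := h3.add_center h4
    rwa [add_sub_cancel] at h5

end main

end Cfsg.Agent.Lib.Geo
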