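import Mathlib
import Cfsg.Agent.Lib.Geo.UnitarySim

set_option autoImplicit false

/-! The group of determinant one isometries of a hermitian form is generated by unitary
transvections. -/

namespace Cfsg.Agent.Lib.Geo

open scoped MatrixGroups Matrix
open Module

variable {ι : Type} [Fintype ι] [DecidableEq ι] {F : Type*} [Field F]

local notation "V" => (ι → F)

variable {σ : F →+* F} {f : (ι → F) → (ι → F) → F}

/-- the isometry group of the form -/
def uGroup (f : (ι → F) → (ι → F) → F) : Subgroup (GL ι F) where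
  carrier := {g | ∀ x y, f (act g x) (act g y) = f x y}
  mul_mem' {a b} ha hb x y := by
    rw [map_mul, LinearEquiv.mul_apply, LinearEquiv.mul_apply, ha, hb]
  one_mem' x y := by
    rw [map_one]
    rfl
  inv_mem' {a} ha x y := by
    have h := ha (act a⁻¹ x) (act a⁻¹ y)
    rw [act_act_inv, act_act_inv] at h
    exact h.symm

theorem mem_uGroup {g : GL ι F} : g ∈ uGroup f ↔ ∀ x y, f (act g x) (act g y) = f x y := Iff.rfl

/-- an isometric endomorphism as an element of `GL` -/
theorem exists_gl_of_iso [Finite F] (hf : SForm σ f) (T : V →ₗ[F] V)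
    (hT : ∀ x y, f (T x) (T y) = f x y) : ∃ g : GL ι F, (∀ x, act g x = T x) := by
  have hinj : Function.Injective T := by
    rw [injective_iff_map_eq_zero]
    intro a ha
    by_contra h0
    obtain ⟨x, hx⟩ := hf.nd a h0
    apply hx
    apply hf.eq_zero_flip
    have := hT a x
    rw [ha, hf.zero_left] at this
    exact this.symm
  let e : V ≃ₗ[F] V := LinearEquiv.ofBijective T
    ⟨hinj, LinearMap.injective_iff_surjective.1 hinj⟩
  refine ⟨act.symm e, fun x => ?_⟩
  rw [MulEquiv.apply_symm_apply]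
  rfl

/-- a transvection with isotropic centre -/
noncomputable def ut (hf : SForm σ f) {z : V} (hz : f z z = 0) (c : F) : GL ι F :=
  tv (lf_self_smul hf hz c)

theorem act_ut (hf : SForm σ f) {z : V} (hz : f z z = 0) (c : F) (x : V) :
    act (ut hf hz c) x = x + (c * f x z) • z := by
  rw [ut, act_tv_apply]
  rfl

theorem ut_mem_u (hf : SForm σ f) {z : V} (hz : f z z = 0) {c : F} (hc : c + σ c = 0) :
    ut hf hz c ∈ uGroup f := by
  intro x y
  rw [act_ut, act_ut]
  simp only [hf.add_left, hf.add_right, hf.smul_left, hf.smul_right, hz, mul_zero, add_zero,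
    map_mul]
  have h1 : f z y = σ (f y z) := hf.herm _ _
  rw [h1]
  linear_combination (f x z * σ (f y z)) * hc

theorem ut_mem_SL (hf : SForm σ f) {z : V} (hz : f z z = 0) (c : F) :
    ut hf hz c ∈ Cfsg.Geo.specialLinear ι F := tv_mem_SL _

/-- the group generated by unitary transvections -/
def UE (hf : SForm σ f) : Subgroup (GL ι F) :=
  Subgroup.closure {g | ∃ (z : V) (hz : f z z = 0) (c : F), c + σ c = 0 ∧ g = ut hf hz c}

theorem ut_mem_UE (hf : SForm σ f) {z : V} (hz : f z z = 0) {c : F} (hc : c + σ c = 0) :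
    ut hf hz c ∈ UE hf := Subgroup.subset_closure ⟨z, hz, c, hc, rfl⟩

theorem UE_le_u (hf : SForm σ f) : UE hf ≤ uGroup f := by
  rw [UE, Subgroup.closure_le]
  rintro g ⟨z, hz, c, hc, rfl⟩
  exact ut_mem_u hf hz hc

theorem UE_le_SL (hf : SForm σ f) : UE hf ≤ Cfsg.Geo.specialLinear ι F := by
  rw [UE, Subgroup.closure_le]
  rintro g ⟨z, hz, c, hc, rfl⟩
  exact ut_mem_SL hf hz c

theorem UE_le_of (hf : SForm σ f) {M : Subgroup (GL ι F)}
    (hH : ∀ (z : V) (hz : f z z = 0) (c : F), c + σ c = 0 → ut hf hz c ∈ M) : UE hf ≤ M := by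
  rw [UE, Subgroup.closure_le]
  rintro g ⟨z, hz, c, hc, rfl⟩
  exact hH z hz c hc

theorem u_inv_left {g : GL ι F} (hg : g ∈ uGroup f) (x y : V) :
    f (act g⁻¹ x) y = f x (act g y) := by
  have h := hg (act g⁻¹ x) y
  rw [act_act_inv] at h
  exact h.symm

/-- conjugating a transvection by an isometry -/
theorem conj_ut (hf : SForm σ f) {g : GL ι F} (hg : g ∈ uGroup f) {z : V} (hz : f z z = 0) (c : F)
    (hz' : f (act g z) (act g z) = 0) :
    g * ut hf hz c * g⁻¹ = ut hf hz' c := by
  apply act.injective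
  ext1 x
  rw [map_mul, map_mul, LinearEquiv.mul_apply, LinearEquiv.mul_apply, act_ut, act_ut, map_add,
    map_smul, u_inv_left hg, act_act_inv]

theorem UE_normal (hf : SForm σ f) {g : GL ι F} (hg : g ∈ uGroup f) {e : GL ι F} (he : e ∈ UE hf) :
    g * e * g⁻¹ ∈ UE hf := by
  induction he using Subgroup.closure_induction with
  | mem x hx =>
    obtain ⟨z, hz, c, hc, rfl⟩ := hx
    have hz' : f (act g z) (act g z) = 0 := by rw [hg, hz]
    rw [conj_ut hf hg hz c hz']
    exact ut_mem_UE hf hz' hc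
  | one => simp [Subgroup.one_mem]
  | mul x y _ _ hx hy =>
    have : g * (x * y) * g⁻¹ = (g * x * g⁻¹) * (g * y * g⁻¹) := by group
    rw [this]
    exact Subgroup.mul_mem _ hx hy
  | inv x _ hx =>
    have : g * x⁻¹ * g⁻¹ = (g * x * g⁻¹)⁻¹ := by group
    rw [this]
    exact Subgroup.inv_mem _ hx

/-- one step of transitivity -/
theorem reach_step (hf : SForm σ f) {a c : V} (haa : f a a = f c c)
    (hz : f (a - c) (a - c) = 0) (hne : f a (a - c) ≠ 0) : ∃ s ∈ UE hf, act s a = c := by
  set κ := f a (a - c) with hκ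
  have hk : κ + σ κ = 0 := by
    have h2 : f (a - c) a = σ κ := hf.herm _ _
    have h3 : f (a - c) (a - c) = f (a - c) a - f (a - c) c := hf.sub_right _ _ _
    have h4 : f (a - c) c = f a c - f c c := hf.sub_left _ _ _
    have h5 : κ = f a a - f a c := hf.sub_right _ _ _
    rw [h2, h4, hz] at h3
    rw [h5] at h3 ⊢
    rw [map_sub] at h3 ⊢
    linear_combination -h3 + haa
  have hs : σ κ ≠ 0 := fun h => hne ((map_eq_zero σ).1 h)
  have ht : (-κ⁻¹) + σ (-κ⁻¹) = 0 := by
    rw [map_neg, map_inv₀]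
    field_simp
    linear_combination -hk
  refine ⟨ut hf hz (-κ⁻¹), ut_mem_UE hf hz ht, ?_⟩
  rw [act_ut, ← hκ]
  have : -κ⁻¹ * κ = -1 := by field_simp
  rw [this, neg_one_smul]
  abel

section gen

variable [Finite F] (hf : SForm σ f) (hσ : σ ≠ RingHom.id F) (hn : 13 ≤ Fintype.card ι)

include hσ in
theorem exists_trace_zero (hf : SForm σ f) : ∃ δ : F, δ ≠ 0 ∧ δ + σ δ = 0 := by
  obtain ⟨a, ha⟩ : ∃ a, σ a ≠ a := by
    by_contra hcon
    push Not at hcon
    exact hσ (RingHom.ext hcon)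
  refine ⟨a - σ a, sub_ne_zero.2 (Ne.symm ha), ?_⟩
  rw [map_sub, hf.inv]
  ring

include hf hσ hn in
theorem reach_indep {a b : V} (ha : f a a = 1) (hb : f b b = 1)
    (hind : ¬ ∃ k : F, hf.lf b = k • hf.lf a) : ∃ s ∈ UE hf, act s a = b := by
  have hiso := fun W hW => hiso_herm (f := f) hf hσ W hW
  have htr : ∀ a, σ a = a → ∃ b, b + σ b = a := fun a ha => htr_herm hσ hf.inv a ha
  obtain ⟨δ, hδ, hδ'⟩ := exists_trace_zero hσ hf
  have ha0 : a ≠ 0 := by
    rintro rfl
    rw [hf.zero_left] at ha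
    exact zero_ne_one ha
  have hb0 : b ≠ 0 := by
    rintro rfl
    rw [hf.zero_left] at hb
    exact zero_ne_one hb
  obtain ⟨x₁, hx₁, hx₁'⟩ := exists_sep (hf.lf_ne_zero ha0) hind
  have hind' : ¬ ∃ k : F, hf.lf a = k • hf.lf b := by
    rintro ⟨k, hk⟩
    have hk0 : k ≠ 0 := by
      rintro rfl
      rw [zero_smul] at hk
      exact hf.lf_ne_zero ha0 hk
    apply hind
    refine ⟨k⁻¹, ?_⟩
    rw [hk, smul_smul, inv_mul_cancel₀ hk0, one_smul]
  obtain ⟨x₂, hx₂, hx₂'⟩ := exists_sep (hf.lf_ne_zero hb0) hind'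
  simp only [SForm.lf_apply] at hx₁ hx₁' hx₂ hx₂'
  set y₀ : V := ((1 + δ) / f x₂ a) • x₂ + ((1 + δ) / f x₁ b) • x₁ with hy₀
  have hy1 : f y₀ a = 1 + δ := by
    simp only [hy₀, hf.add_left, hf.smul_left, hx₁, mul_zero, add_zero]
    field_simp
  have hy2 : f y₀ b = 1 + δ := by
    simp only [hy₀, hf.add_left, hf.smul_left, hx₂, mul_zero, zero_add]
    field_simp
  obtain ⟨c, hc1, hc2⟩ := affine_solve hf hiso htr [hf.lf a, hf.lf b] (by simp; omega) y₀ (e := 1)
    (map_one σ)
  have hca : f c a = 1 + δ := by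
    have := hc1 (hf.lf a) (by simp)
    simp only [SForm.lf_apply] at this
    rw [this, hy1]
  have hcb : f c b = 1 + δ := by
    have := hc1 (hf.lf b) (by simp)
    simp only [SForm.lf_apply] at this
    rw [this, hy2]
  have hac : f a c = 1 - δ := by
    rw [hf.herm, hca, map_add, map_one]
    linear_combination hδ'
  have hbc : f b c = 1 - δ := by
    rw [hf.herm, hcb, map_add, map_one]
    linear_combination hδ'
  have key : ∀ {u : V}, f u u = 1 → f c u = 1 + δ → f u c = 1 - δ → ∃ s ∈ UE hf, act s u = c := by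
    intro u hu h1 h2
    refine reach_step hf (by rw [hu, hc2]) ?_ ?_
    · simp only [hf.sub_left, hf.sub_right, hu, h1, h2, hc2]
      ring
    · simp only [hf.sub_right, hu, h2]
      intro h
      apply hδ
      linear_combination h
  obtain ⟨s₁, hs₁, h1⟩ := key ha hca hac
  obtain ⟨s₂, hs₂, h2⟩ := key hb hcb hbc
  refine ⟨s₂⁻¹ * s₁, Subgroup.mul_mem _ (Subgroup.inv_mem _ hs₂) hs₁, ?_⟩
  rw [map_mul, LinearEquiv.mul_apply, h1, ← h2, act_inv_act]

include hf hσ hn in
theorem reach {a b : V} (ha : f a a = 1) (hb : f b b = 1) : ∃ s ∈ UE hf, act s a = b := by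
  have hiso := fun W hW => hiso_herm (f := f) hf hσ W hW
  have htr : ∀ a, σ a = a → ∃ b, b + σ b = a := fun a ha => htr_herm hσ hf.inv a ha
  by_cases h : ∃ k : F, hf.lf b = k • hf.lf a
  · obtain ⟨k, hk⟩ := h
    obtain ⟨c, hc1, hc2⟩ := affine_solve hf hiso htr [hf.lf a] (by simp; omega) (0 : V) (e := 1)
      (map_one σ)
    have hca : f c a = 0 := by
      have := hc1 (hf.lf a) (by simp)
      simp only [SForm.lf_apply] at this
      rw [this, hf.zero_left]
    have h1 : ¬ ∃ k : F, hf.lf c = k • hf.lf a := by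
      rintro ⟨k', hk'⟩
      have := LinearMap.congr_fun hk' c
      simp only [SForm.lf_apply, LinearMap.smul_apply, smul_eq_mul, hca, hc2, mul_zero] at this
      exact one_ne_zero this
    have h2 : ¬ ∃ k : F, hf.lf c = k • hf.lf b := by
      rintro ⟨k', hk'⟩
      apply h1
      refine ⟨k' * k, ?_⟩
      rw [hk', hk, smul_smul]
    obtain ⟨s₁, hs₁, e1⟩ := reach_indep hf hσ hn ha hc2 h1
    obtain ⟨s₂, hs₂, e2⟩ := reach_indep hf hσ hn hb hc2 h2
    refine ⟨s₂⁻¹ * s₁, Subgroup.mul_mem _ (Subgroup.inv_mem _ hs₂) hs₁, ?_⟩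
    rw [map_mul, LinearEquiv.mul_apply, e1, ← e2, act_inv_act]
  · exact reach_indep hf hσ hn ha hb h

/-- quasi-reflections are isometries -/
theorem qr_iso (hf : SForm σ f) (a : V) {l : F} (h : l + σ l + l * σ l * f a a = 0) (x y : V) :
    f (LinearMap.transvection (l • hf.lf a) a x) (LinearMap.transvection (l • hf.lf a) a y) = f x y := by
  simp only [LinearMap.transvection.apply, LinearMap.smul_apply, SForm.lf_apply, smul_eq_mul,
    hf.add_left, hf.add_right, hf.smul_left, hf.smul_right, map_mul]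
  have h1 : f a y = σ (f y a) := hf.herm _ _
  rw [h1]
  linear_combination (f x a * σ (f y a)) * h

include hf in
theorem exists_qr (a : V) {l : F} (h : l + σ l + l * σ l * f a a = 0) :
    ∃ g : GL ι F, g ∈ uGroup f ∧ (∀ x, act g x = x + (l * f x a) • a) ∧
      ∀ ν, ν = 1 + l * f a a → LinearMap.det ((act g : V ≃ₗ[F] V) : V →ₗ[F] V) = ν := by
  obtain ⟨g, hg⟩ := exists_gl_of_iso hf (LinearMap.transvection (l • hf.lf a) a) (qr_iso hf a h)
  refine ⟨g, fun x y => ?_, fun x => ?_, fun ν hν => ?_⟩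
  · rw [hg, hg, qr_iso hf a h]
  · rw [hg, LinearMap.transvection.apply]
    rfl
  · have : ((act g : V ≃ₗ[F] V) : V →ₗ[F] V) = LinearMap.transvection (l • hf.lf a) a :=
      LinearMap.ext hg
    rw [this, LinearMap.transvection.det, hν]
    simp

include hσ in
/-- An isometry moving some vector non-orthogonally to its displacement. -/
theorem exists_nonorth_disp (hf : SForm σ f) {g : GL ι F} (hg1 : g ≠ 1) :
    ∃ x, f x (act g x - x) ≠ 0 := by
  by_contra hcon
  push Not at hcon
  apply hg1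
  obtain ⟨a, ha⟩ : ∃ a, σ a ≠ a := by
    by_contra hcon'
    push Not at hcon'
    exact hσ (RingHom.ext hcon')
  set h : V → V := fun x => act g x - x with hh
  have hadd : ∀ x y, h (x + y) = h x + h y := by
    intro x y
    simp only [hh, map_add]
    abel
  have hsmul : ∀ (c : F) x, h (c • x) = c • h x := by
    intro c x
    simp only [hh, map_smul, smul_sub]
  have h0 : ∀ x, f x (h x) = 0 := hcon
  have h1 : ∀ x y, f x (h y) + f y (h x) = 0 := by
    intro x y
    have := h0 (x + y)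
    rw [hadd, hf.add_left, hf.add_right, hf.add_right, h0, h0] at this
    linear_combination this
  have h2 : ∀ x y, f x (h y) = 0 := by
    intro x y
    have h3 := h1 (a • x) y
    rw [hf.smul_left, hsmul, hf.smul_right] at h3
    have h4 := h1 x y
    have h5 : (a - σ a) * f x (h y) = 0 := by linear_combination h3 - σ a * h4
    exact (mul_eq_zero.1 h5).resolve_left (sub_ne_zero.2 (Ne.symm ha))
  apply act.injective
  ext1 y
  rw [map_one]
  by_contra hne
  have : h y ≠ 0 := by
    intro h3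
    apply hne
    have h4 : act g y - y = 0 := h3
    exact sub_eq_zero.1 h4
  obtain ⟨x, hx⟩ := hf.nd (h y) this
  exact hx (h2 x y)

/-- the fixed subspace -/
noncomputable def fixS (g : GL ι F) : Submodule F V :=
  LinearMap.ker (((act g : V ≃ₗ[F] V) : V →ₗ[F] V) - LinearMap.id)

theorem mem_fixS {g : GL ι F} {x : V} : x ∈ fixS g ↔ act g x = x := by
  simp [fixS, sub_eq_zero]

theorem fixS_top {g : GL ι F} (h : ∀ x, x ∈ fixS g) : g = 1 := by
  apply act.injective
  ext1 x
  rw [map_one]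
  exact mem_fixS.1 (h x)

/-- a fixed family of reflections with a given determinant -/
structure IsRho (f : (ι → F) → (ι → F) → F) (a₀ : ι → F) (ν : F) (r : GL ι F) : Prop where
  mem : r ∈ uGroup f
  act_eq : ∀ x, act r x = x + ((ν - 1) * f x a₀) • a₀
  det_eq : ((r : GL ι F) : Matrix ι ι F).det = ν

include hf in
theorem exists_rho {a₀ : V} (ha₀ : f a₀ a₀ = 1) {ν : F} (hν : ν * σ ν = 1) :
    ∃ r, IsRho f a₀ ν r := by
  obtain ⟨g, h1, h2, h3⟩ := exists_qr hf a₀ (l := ν - 1) (by
    rw [ha₀, map_sub, map_one]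
    linear_combination hν)
  refine ⟨g, h1, h2, ?_⟩
  rw [← det_act]
  exact h3 ν (by rw [ha₀]; ring)

theorem IsRho.mul {a₀ : V} (hf : SForm σ f) (ha₀ : f a₀ a₀ = 1) {ν ν' : F} {r r' : GL ι F} (h : IsRho f a₀ ν r)
    (h' : IsRho f a₀ ν' r') : IsRho f a₀ (ν * ν') (r * r') := by
  refine ⟨Subgroup.mul_mem _ h.mem h'.mem, fun x => ?_, ?_⟩
  · rw [map_mul, LinearEquiv.mul_apply, h'.act_eq, h.act_eq]
    simp only [hf.add_left, hf.smul_left, ha₀, mul_one, add_assoc, ← add_smul]
    congr 2
    ring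
  · rw [Units.val_mul, Matrix.det_mul, h.det_eq, h'.det_eq]

include hf hσ hn in
/-- multiplying by a quasi-reflection on the left -/
theorem step_qr {a₀ : V} (ha₀ : f a₀ a₀ = 1) {τ e r : GL ι F} {ν : F} (hν : ν * σ ν = 1)
    (he : e ∈ UE hf) (hr : IsRho f a₀ ν r) (hτ : τ ∈ uGroup f) {l : F} {w : V}
    (hl : l + σ l + l * σ l * f w w = 0) (hτa : ∀ x, act τ x = x + (l * f x w) • w) :
    ∃ e' ∈ UE hf, ∃ ν', ν' * σ ν' = 1 ∧ ∃ r', IsRho f a₀ ν' r' ∧ τ * (e * r) = e' * r' := by
  by_cases hw : f w w = 0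
  · refine ⟨τ * e, ?_, ν, hν, r, hr, by group⟩
    have hl' : l + σ l = 0 := by simpa [hw] using hl
    have : τ = ut hf hw l := by
      apply act.injective
      ext1 x
      rw [hτa, act_ut]
    rw [this]
    exact Subgroup.mul_mem _ (ut_mem_UE hf hw hl') he
  · obtain ⟨μ, hμ0, hμ⟩ := Cfsg.Agent.Lib.Classical.Witt.norm_surj_sigma σ hσ hf.inv (f w w) hw
      (hf.self_fixed w)
    have hσμ : σ μ ≠ 0 := fun h => hμ0 ((map_eq_zero σ).1 h)
    set a : V := μ⁻¹ • w with ha
    have haa : f a a = 1 := by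
      simp only [ha, hf.smul_left, hf.smul_right, map_inv₀]
      rw [← hμ]
      field_simp
    obtain ⟨s, hs, hsa⟩ := reach hf hσ hn ha₀ haa
    set ν' := 1 + l * f w w with hν'
    have hν'n : ν' * σ ν' = 1 := by
      rw [hν', map_add, map_one, map_mul, hf.self_fixed]
      linear_combination (f w w) * hl
    obtain ⟨r', hr'⟩ := exists_rho hf ha₀ hν'n
    have hτs : τ = s * r' * s⁻¹ := by
      apply act.injective
      ext1 x
      rw [map_mul, map_mul, LinearEquiv.mul_apply, LinearEquiv.mul_apply, hr'.act_eq, map_add, map_smul,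
        act_act_inv, hτa, hsa, u_inv_left (UE_le_u hf hs), hsa]
      have e1 : f x a = σ μ⁻¹ * f x w := by
        rw [ha, hf.smul_right]
      rw [e1, ha, smul_smul, hν', ← hμ]
      congr 2
      rw [map_inv₀]
      field_simp
      ring
    refine ⟨s * (r' * (s⁻¹ * e) * r'⁻¹), ?_, ν' * ν, ?_, r' * r, hr'.mul hf ha₀ hr, ?_⟩
    · exact Subgroup.mul_mem _ hs (UE_normal hf hr'.mem (Subgroup.mul_mem _ (Subgroup.inv_mem _ hs) he))
    · rw [map_mul]
      linear_combination (ν * σ ν) * hν'n + hν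
    · rw [hτs]
      group

include hf hσ hn in
/-- every isometry is a product of an element of `UE` and a fixed reflection -/
theorem exists_UE_rho {a₀ : V} (ha₀ : f a₀ a₀ = 1) (d : ℕ) : ∀ g ∈ uGroup f,
    Fintype.card ι ≤ finrank F (fixS g) + d →
    ∃ e ∈ UE hf, ∃ ν, ν * σ ν = 1 ∧ ∃ r, IsRho f a₀ ν r ∧ g = e * r := by
  have hone : ∃ e ∈ UE hf, ∃ ν : F, ν * σ ν = 1 ∧ ∃ r, IsRho f a₀ ν r ∧ (1 : GL ι F) = e * r := by
    obtain ⟨r, hr⟩ := exists_rho hf ha₀ (ν := 1) (by simp)
    refine ⟨1, Subgroup.one_mem _, 1, by simp, r, hr, ?_⟩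
    have : r = 1 := by
      apply act.injective
      ext1 x
      rw [hr.act_eq, map_one]
      simp
    rw [this, one_mul]
  have hV : finrank F V = Fintype.card ι := by simp
  induction d with
  | zero =>
    intro g _ hd
    have : fixS g = ⊤ := by
      apply Submodule.eq_top_of_finrank_eq
      have := Submodule.finrank_le (fixS g)
      omega
    have hg1 : g = 1 := fixS_top (fun x => by rw [this]; trivial)
    rw [hg1]
    exact hone
  | succ d ih =>
    intro g hg hd
    by_cases hg1 : g = 1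
    · rw [hg1]
      exact hone
    obtain ⟨x, hx⟩ := exists_nonorth_disp hσ hf hg1
    set w : V := act g x - x with hw
    set κ := f x w with hκ
    have hxg : f (act g x) (act g x) = f x x := hg x x
    have h1 : κ + σ κ = - f w w := by
      have h2 : σ κ = f w x := (hf.herm _ _).symm
      rw [h2, hκ, hw]
      simp only [hf.sub_left, hf.sub_right, hxg]
      ring
    have hσκ : σ κ ≠ 0 := fun h => hx ((map_eq_zero σ).1 h)
    have hl : κ⁻¹ + σ κ⁻¹ + κ⁻¹ * σ κ⁻¹ * f w w = 0 := by
      rw [map_inv₀]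
      field_simp
      linear_combination h1
    obtain ⟨τ, hτ, hτa, -⟩ := exists_qr hf w hl
    have hτx : act τ x = act g x := by
      rw [hτa, inv_mul_cancel₀ hx, one_smul, hw]
      abel
    have hg' : τ⁻¹ * g ∈ uGroup f := Subgroup.mul_mem _ (Subgroup.inv_mem _ hτ) hg
    have hlt : fixS g < fixS (τ⁻¹ * g) := by
      refine lt_of_le_of_ne ?_ ?_
      · intro y hy
        rw [mem_fixS] at hy ⊢
        have h3 : f y w = 0 := by
          rw [hw, hf.sub_right]
          have := hg y x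
          rw [hy] at this
          rw [this, sub_self]
        have h4 : act τ y = y := by
          rw [hτa, h3, mul_zero, zero_smul, add_zero]
        rw [map_mul, LinearEquiv.mul_apply, hy, ← h4, act_inv_act, h4]
      · intro he
        have h5 : x ∈ fixS (τ⁻¹ * g) := by
          rw [mem_fixS, map_mul, LinearEquiv.mul_apply, ← hτx, act_inv_act]
        rw [← he, mem_fixS] at h5
        apply hx
        rw [hκ, hw, h5, sub_self, hf.zero_right]
    have hfr := Submodule.finrank_lt_finrank_of_lt hlt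
    obtain ⟨e, he, ν, hν, r, hr, hgr⟩ := ih _ hg' (by omega)
    have hgeq : g = τ * (e * r) := by
      rw [← hgr]
      group
    rw [hgeq]
    exact step_qr hf hσ hn ha₀ hν he hr hτ hl hτa

include hf hσ hn in
/-- The determinant one isometries are generated by transvections. -/
theorem su_le_UE {g : GL ι F} (hg : g ∈ uGroup f) (hd : g ∈ Cfsg.Geo.specialLinear ι F) :
    g ∈ UE hf := by
  have hiso := fun W hW => hiso_herm (f := f) hf hσ W hW
  have htr : ∀ a, σ a = a → ∃ b, b + σ b = a := fun a ha => htr_herm hσ hf.inv a ha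
  obtain ⟨a₀, -, ha₀⟩ := affine_solve hf hiso htr [] (by simp; omega) (0 : V) (e := 1) (map_one σ)
  obtain ⟨e, he, ν, -, r, hr, hgr⟩ := exists_UE_rho hf hσ hn ha₀ (Fintype.card ι) g hg (by omega)
  have h1 : ((e : GL ι F) : Matrix ι ι F).det = 1 := by
    have := (mem_SL_iff.1 (UE_le_SL hf he))
    rwa [det_act] at this
  have h2 : ((g : GL ι F) : Matrix ι ι F).det = 1 := by
    have := (mem_SL_iff.1 hd)
    rwa [det_act] at this
  have h3 : ν = 1 := by
    rw [hgr, Units.val_mul, Matrix.det_mul, h1, hr.det_eq, one_mul] at h2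
    exact h2
  have : r = 1 := by
    apply act.injective
    ext1 x
    rw [hr.act_eq, map_one, h3]
    simp
  rw [hgr, this, mul_one]
  exact he

include hf hσ hn in
theorem su_le {M : Subgroup (GL ι F)}
    (hH : ∀ (z : V) (hz : f z z = 0) (c : F), c + σ c = 0 → ut hf hz c ∈ M) :
    uGroup f ⊓ Cfsg.Geo.specialLinear ι F ≤ M := fun _ hg =>
  UE_le_of hf hH (su_le_UE hf hσ hn hg.1 hg.2)

end gen

end Cfsg.Agent.Lib.Geo
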