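import Mathlib
import Cfsg.Agent.Lib.Geo.OrthSim
import Cfsg.Agent.Lib.Geo.SUGen
import Cfsg.Agent.Lib.Geo.SesqProp

set_option autoImplicit false

/-! Quadratic forms with non-degenerate polar form: solving for values, Siegel elements. -/

namespace Cfsg.Agent.Lib.Geo

open scoped MatrixGroups Matrix
open Module MvPolynomial

variable {ι : Type} [Fintype ι] [DecidableEq ι] {F : Type*} [Field F]

local notation "V" => (ι → F)

variable {Q : (ι → F) → F} (hQ : Cfsg.Geo.IsNondegenerateQuadraticForm Q)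

local notation "f" => QuadraticMap.polar Q

include hQ in
theorem pol_add_left (x y v : V) : f (x + y) v = f x v + f y v := (sform_of_quad hQ).add_left x y v

include hQ in
theorem pol_add_right (v x y : V) : f v (x + y) = f v x + f v y := (sform_of_quad hQ).add_right v x y

include hQ in
theorem pol_smul_left (c : F) (x v : V) : f (c • x) v = c * f x v := (sform_of_quad hQ).smul_left c x v

include hQ in
theorem pol_smul_right (c : F) (v x : V) : f v (c • x) = c * f v x := (sform_of_quad hQ).smul_right c v x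

include hQ in
theorem pol_zero_left (v : V) : f 0 v = 0 := (sform_of_quad hQ).zero_left v

include hQ in
theorem pol_zero_right (v : V) : f v 0 = 0 := (sform_of_quad hQ).zero_right v

include hQ in
theorem pol_sub_left (x y v : V) : f (x - y) v = f x v - f y v := (sform_of_quad hQ).sub_left x y v

include hQ in
theorem pol_sub_right (v x y : V) : f v (x - y) = f v x - f v y := (sform_of_quad hQ).sub_right v x y

include hQ in
theorem pol_neg_left (x v : V) : f (-x) v = - f x v := by
  have : -x = (-1 : F) • x := by simp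
  rw [this, pol_smul_left hQ]
  ring

include hQ in
theorem pol_neg_right (v x : V) : f v (-x) = - f v x := by
  have : -x = (-1 : F) • x := by simp
  rw [this, pol_smul_right hQ]
  ring

theorem pol_comm' (x y : V) : f x y = f y x := QuadraticMap.polar_comm _ _ _

include hQ in
theorem pol_self_of {x : V} (hx : Q x = 0) : f x x = 0 := by
  rw [polar_self' hQ, hx, mul_zero]

include hQ in
theorem Q_neg (x : V) : Q (-x) = Q x := by
  have : -x = (-1 : F) • x := by simp
  rw [this, Q_smul' hQ]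
  ring

include hQ in
theorem Q_sub (u v : V) : Q (u - v) = Q u + Q v - f u v := by
  rw [sub_eq_add_neg, Q_add' (Q := Q), Q_neg hQ, pol_neg_right hQ]
  ring

include hQ in
theorem Q_comb3 (x w a : V) (p r : F) : Q (x + p • w + r • a)
    = Q x + p * p * Q w + r * r * Q a + p * f x w + r * f x a + p * r * f w a := by
  rw [Q_add' (Q := Q), Q_add' (Q := Q), Q_smul' hQ, Q_smul' hQ]
  simp only [pol_add_left hQ, pol_smul_left hQ, pol_smul_right hQ]
  ring

/-! ### Singular vectors exist -/

include hQ in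
/-- every three dimensional subspace contains a non-zero singular vector -/
theorem hiso_quad [Fintype F] (W : Submodule F (ι → F)) (hW : 3 ≤ finrank F W) :
    ∃ x ∈ W, x ≠ 0 ∧ Q x = 0 := by
  classical
  obtain ⟨e, he⟩ := exists_linearIndependent_of_le_finrank (R := F) hW
  let x : Fin 3 → V := fun i => (e i : V)
  have hx : LinearIndependent F x := he.map' W.subtype (Submodule.ker_subtype W)
  let g : Fin 3 → Fin 3 → F := fun i j => if i < j then f (x i) (x j) else if i = j then Q (x i) else 0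
  let P : MvPolynomial (Fin 3) F := ∑ i, ∑ j, C (g i j) * (X i * X j)
  have hdeg : P.totalDegree < Fintype.card (Fin 3) := by
    have h1 : P.totalDegree ≤ 2 := by
      refine totalDegree_finsetSum_le fun i _ => totalDegree_finsetSum_le fun j _ => ?_
      refine (totalDegree_mul _ _).trans ?_
      have h2 : (X i * X j : MvPolynomial (Fin 3) F).totalDegree ≤ 2 := by
        refine (totalDegree_mul _ _).trans ?_
        simp
      simp only [totalDegree_C, zero_add]
      exact h2
    simp only [Fintype.card_fin]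
    omega
  have heval : ∀ a : Fin 3 → F, eval a P = Q (∑ i, a i • x i) := by
    intro a
    simp only [P, map_sum, map_mul, eval_C, eval_X]
    simp only [Fin.sum_univ_three]
    rw [Q_add' (Q := Q), Q_add' (Q := Q), Q_smul' hQ, Q_smul' hQ, Q_smul' hQ]
    simp only [pol_add_left hQ, pol_smul_left hQ, pol_smul_right hQ]
    simp [g]
    ring
  haveI := ringChar.charP F
  have hdvd := char_dvd_card_solutions (K := F) (σ := Fin 3) (ringChar F) hdeg
  by_contra hcon
  push Not at hcon
  have hall : ∀ a : {a : Fin 3 → F // eval a P = 0}, a.1 = 0 := by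
    rintro ⟨a, ha⟩
    by_contra ha0
    have hne : ∑ i, a i • x i ≠ 0 := by
      intro h
      apply ha0
      funext i
      exact Fintype.linearIndependent_iff.1 hx a h i
    refine hcon _ ?_ hne (by rw [← heval]; exact ha)
    exact W.sum_mem fun i _ => W.smul_mem _ (e i).2
  have hzero : eval (0 : Fin 3 → F) P = 0 := by
    rw [heval]
    simp [Q_zero' hQ]
  have hcard : Fintype.card {a : Fin 3 → F // eval a P = 0} = 1 := by
    rw [Fintype.card_eq_one_iff]
    refine ⟨⟨0, hzero⟩, fun y => Subtype.ext (hall y)⟩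
  rw [hcard] at hdvd
  exact CharP.char_ne_one F (ringChar F) (Nat.dvd_one.1 hdvd)

include hQ in
/-- singular vector outside the radical of a big subspace -/
theorem exists_hyp_Q [Fintype F] (Y : Submodule F (ι → F))
    (hY : 2 * Fintype.card ι + 3 ≤ 2 * finrank F Y + Fintype.card ι) :
    ∃ p₁ ∈ Y, ∃ p₂ ∈ Y, Q p₁ = 0 ∧ f p₁ p₂ ≠ 0 := by
  set hf := sform_of_quad hQ with hhf
  set R : Submodule F V := Y ⊓ hf.lperp Y with hR
  obtain ⟨E, hE⟩ := Submodule.exists_isCompl R
  have h1 := Submodule.finrank_add_eq_of_isCompl hE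
  have hV : finrank F V = Fintype.card ι := by simp
  rw [hV] at h1
  have h2 := hf.finrank_lperp Y
  have h3 : finrank F R ≤ finrank F (hf.lperp Y) := Submodule.finrank_mono inf_le_right
  have h4 := Submodule.finrank_sup_add_finrank_inf_eq E Y
  have h5 : finrank F ↥(E ⊔ Y) ≤ finrank F V := Submodule.finrank_le _
  rw [hV] at h5
  obtain ⟨x, hx, hx0, hxx⟩ := hiso_quad hQ (E ⊓ Y) (by omega)
  have hxR : x ∉ hf.lperp Y := by
    intro h
    have : x ∈ R ⊓ E := ⟨⟨hx.2, h⟩, hx.1⟩
    rw [hE.inf_eq_bot] at this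
    exact hx0 this
  rw [hf.mem_lperp] at hxR
  push Not at hxR
  obtain ⟨y, hy, hy0⟩ := hxR
  exact ⟨x, hx.2, y, hy, hxx, hy0⟩

include hQ in
/-- a hyperbolic pair in a big subspace -/
theorem exists_hyp_pair [Fintype F] (Y : Submodule F (ι → F))
    (hY : 2 * Fintype.card ι + 3 ≤ 2 * finrank F Y + Fintype.card ι) :
    ∃ s ∈ Y, ∃ t ∈ Y, Q s = 0 ∧ Q t = 0 ∧ f s t = 1 := by
  obtain ⟨p₁, hp₁, p₂, hp₂, h11, h12⟩ := exists_hyp_Q hQ Y hY
  refine ⟨p₁, hp₁, (f p₁ p₂)⁻¹ • p₂ - (Q p₂ * (f p₁ p₂)⁻¹ * (f p₁ p₂)⁻¹) • p₁,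
    Y.sub_mem (Y.smul_mem _ hp₂) (Y.smul_mem _ hp₁), h11, ?_, ?_⟩
  · rw [Q_sub hQ, Q_smul' hQ, Q_smul' hQ, h11, pol_smul_left hQ, pol_smul_right hQ, pol_comm' p₂ p₁]
    field_simp
    ring
  · rw [pol_sub_right hQ, pol_smul_right hQ, pol_smul_right hQ, pol_self_of hQ h11]
    field_simp
    ring

include hQ in
/-- the form takes every value on an affine subspace of small codimension. -/
theorem affine_Q [Fintype F] (Λ : List (Dual F V)) (hΛ : 2 * Λ.length + 3 ≤ Fintype.card ι) (y₀ : V) (e : F) :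
    ∃ z, (∀ l ∈ Λ, l z = l y₀) ∧ Q z = e := by
  obtain ⟨s, hs, t, ht, hQs, hQt, hst⟩ := exists_hyp_pair hQ (cutL Λ) (by
    have := finrank_cutL Λ
    omega)
  rw [mem_cutL] at hs ht
  set β := 1 - f y₀ s with hβ
  set γ := e - Q y₀ - β * f y₀ t with hγ
  refine ⟨y₀ + γ • s + β • t, fun l hl => ?_, ?_⟩
  · simp [hs l hl, ht l hl]
  · rw [Q_comb3 hQ, hQs, hQt, hst]
    rw [hγ, hβ]
    ring

include hQ in
/-- two independent vectors: prescribing the pairings -/
theorem exists_two_values {a b : V} (ha : a ≠ 0) (hb : ∀ c : F, b ≠ c • a) (e₁ e₂ : F) :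
    ∃ y, f y a = e₁ ∧ f y b = e₂ := by
  set hf := sform_of_quad hQ with hhf
  have hb0 : b ≠ 0 := by
    intro h
    exact hb 0 (by rw [h, zero_smul])
  have ha' : ∀ c : F, a ≠ c • b := by
    intro c h
    have hc : c ≠ 0 := by
      rintro rfl
      exact ha (by rw [h, zero_smul])
    apply hb c⁻¹
    rw [h, smul_smul, inv_mul_cancel₀ hc, one_smul]
  have key : ∀ {a b : V}, a ≠ 0 → (∀ c : F, b ≠ c • a) → ∃ y, f y a = 0 ∧ f y b = 1 := by
    intro a b ha hb
    obtain ⟨y, hy1, hy2⟩ := exists_sep (hf.lf_ne_zero ha) (ψ := hf.lf b) (by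
      rintro ⟨c, hc⟩
      apply hb c
      apply hf.lf_injective
      rw [hc, hf.lf_smul]
      rfl)
    refine ⟨(f y b)⁻¹ • y, ?_, ?_⟩
    · rw [pol_smul_left hQ]
      have : f y a = 0 := hy1
      rw [this, mul_zero]
    · rw [pol_smul_left hQ]
      exact inv_mul_cancel₀ hy2
  obtain ⟨y₁, h1, h2⟩ := key ha hb
  obtain ⟨y₂, h3, h4⟩ := key hb0 ha'
  refine ⟨e₂ • y₁ + e₁ • y₂, ?_, ?_⟩
  · rw [pol_add_left hQ, pol_smul_left hQ, pol_smul_left hQ, h1, h4]
    ring
  · rw [pol_add_left hQ, pol_smul_left hQ, pol_smul_left hQ, h2, h3]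
    ring

include hQ in
/-- a singular vector non-orthogonal to two given non-zero vectors -/
theorem exists_singular_nonorth [Fintype F] (hn : 9 ≤ Fintype.card ι) {a z : V} (ha : a ≠ 0) (hz : z ≠ 0) :
    ∃ u, Q u = 0 ∧ f u a ≠ 0 ∧ f u z ≠ 0 := by
  set hf := sform_of_quad hQ with hhf
  obtain ⟨y₁, hy₁⟩ := hf.nd a ha
  obtain ⟨y₂, hy₂⟩ := hf.nd z hz
  obtain ⟨y, h1, h2⟩ : ∃ y, f y a ≠ 0 ∧ f y z ≠ 0 := by
    by_cases h3 : f y₁ z = 0
    · by_cases h4 : f y₂ a = 0
      · refine ⟨y₁ + y₂, ?_, ?_⟩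
        · rw [pol_add_left hQ, h4, add_zero]
          exact hy₁
        · rw [pol_add_left hQ, h3, zero_add]
          exact hy₂
      · exact ⟨y₂, h4, hy₂⟩
    · exact ⟨y₁, hy₁, h3⟩
  obtain ⟨u, hu, hu0⟩ := affine_Q hQ [hf.lf a, hf.lf z] (by simp; omega) y 0
  refine ⟨u, hu0, ?_, ?_⟩
  · have := hu (hf.lf a) (by simp)
    simp only [SForm.lf_apply] at this
    rwa [this]
  · have := hu (hf.lf z) (by simp)
    simp only [SForm.lf_apply] at this
    rwa [this]

end Cfsg.Agent.Lib.Geo
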