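import Mathlib
import Cfsg.Agent.Lib.Geo.OmegaBasic

set_option autoImplicit false

/-! Siegel transformations and reflections of a quadratic form with non-degenerate polar form. -/

namespace Cfsg.Agent.Lib.Geo

open scoped MatrixGroups Matrix commutatorElement
open Module

variable {ι : Type} [Fintype ι] [DecidableEq ι] {F : Type*} [Field F]

local notation "V" => (ι → F)

variable {Q : (ι → F) → F} (hQ : Cfsg.Geo.IsNondegenerateQuadraticForm Q)

local notation "f" => QuadraticMap.polar Q

theorem mem_iso {g : GL ι F} : g ∈ Cfsg.isometryGroup F Q ↔ ∀ x, Q (act g x) = Q x :=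
  ⟨fun h x => h x 0, fun h x _ => h x⟩

theorem iso_polar {g : GL ι F} (hg : g ∈ Cfsg.isometryGroup F Q) (x y : V) :
    f (act g x) (act g y) = f x y := by
  simp only [QuadraticMap.polar, ← map_add, mem_iso.1 hg]

theorem iso_inv_polar {g : GL ι F} (hg : g ∈ Cfsg.isometryGroup F Q) (x y : V) :
    f (act g⁻¹ x) y = f x (act g y) := by
  have := iso_polar hg (act g⁻¹ x) y
  rw [act_act_inv] at this
  exact this.symm

/-- the underlying linear map of a Siegel element -/
noncomputable def sgL (a w : V) : V →ₗ[F] V where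
  toFun x := x + f x a • w - f x w • a - (Q w * f x a) • a
  map_add' x y := by
    simp only [pol_add_left hQ]
    (module)
  map_smul' c x := by
    simp only [pol_smul_left hQ, RingHom.id_apply]
    (module)

theorem sgL_apply (a w x : V) : sgL hQ a w x = x + f x a • w - f x w • a - (Q w * f x a) • a := rfl

theorem polar_of_pres (T : V →ₗ[F] V) (hT : ∀ x, Q (T x) = Q x) (x y : V) : f (T x) (T y) = f x y := by
  simp only [QuadraticMap.polar, ← map_add, hT]

theorem sgL_pres {a w : V} (ha : Q a = 0) (haw : f a w = 0) (x : V) : Q (sgL hQ a w x) = Q x := by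
  have e : sgL hQ a w x = x + f x a • w + (- f x w - Q w * f x a) • a := by
    rw [sgL_apply]
    (module)
  have hwa : f w a = 0 := by rw [pol_comm']; exact haw
  rw [e, Q_comb3 hQ, ha, hwa]
  ring

theorem exists_sg [Finite F] {a w : V} (ha : Q a = 0) (haw : f a w = 0) :
    ∃ g : GL ι F, ∀ x, act g x = sgL hQ a w x :=
  exists_gl_of_iso (sform_of_quad hQ) _ (polar_of_pres _ (sgL_pres hQ ha haw))

open _root_.Classical in
/-- the Siegel element (trivial when the hypotheses fail) -/
noncomputable def sg [Finite F] (a w : V) : GL ι F :=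
  if h : Q a = 0 ∧ f a w = 0 then Classical.choose (exists_sg hQ h.1 h.2) else 1

variable [Finite F]

theorem act_sg {a w : V} (ha : Q a = 0) (haw : f a w = 0) (x : V) :
    act (sg hQ a w) x = x + f x a • w - f x w • a - (Q w * f x a) • a := by
  rw [sg, dif_pos ⟨ha, haw⟩, Classical.choose_spec (exists_sg hQ ha haw) x, sgL_apply]

theorem sg_mem_iso (a w : V) : sg hQ a w ∈ Cfsg.isometryGroup F Q := by
  rw [mem_iso]
  intro x
  by_cases h : Q a = 0 ∧ f a w = 0
  · rw [sg, dif_pos h, Classical.choose_spec (exists_sg hQ h.1 h.2) x, sgL_pres hQ h.1 h.2]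
  · rw [sg, dif_neg h, map_one]
    rfl

theorem sg_of_not {a w : V} (h : ¬ (Q a = 0 ∧ f a w = 0)) : sg hQ a w = 1 := by
  rw [sg, dif_neg h]

/-- on the orthogonal complement of the centre, a Siegel element is a plain translation -/
theorem act_sg_orth {a w x : V} (ha : Q a = 0) (haw : f a w = 0) (hx : f x a = 0) :
    act (sg hQ a w) x = x - f x w • a := by
  rw [act_sg hQ ha haw, hx]
  simp

theorem sg_add {a w w' : V} (ha : Q a = 0) (h1 : f a w = 0) (h2 : f a w' = 0) :
    sg hQ a w * sg hQ a w' = sg hQ a (w + w') := by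
  have h12 : f a (w + w') = 0 := by rw [pol_add_right hQ, h1, h2, add_zero]
  have haa := pol_self_of hQ ha
  have h1' : f w a = 0 := by rw [pol_comm']; exact h1
  have h2' : f w' a = 0 := by rw [pol_comm']; exact h2
  apply act.injective
  ext1 x
  rw [map_mul, LinearEquiv.mul_apply, act_sg hQ ha h12, act_sg hQ ha h1, act_sg hQ ha h2, Q_add' (Q := Q)]
  simp only [pol_add_left hQ, pol_sub_left hQ, pol_smul_left hQ, pol_add_right hQ, haa, h1, h2, h1', h2']
  rw [pol_comm' w' w]
  (module)

theorem sg_zero {a : V} (ha : Q a = 0) : sg hQ a 0 = 1 := by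
  apply act.injective
  ext1 x
  rw [act_sg hQ ha (pol_zero_right hQ a), Q_zero' hQ, pol_zero_right hQ, map_one]
  simp

theorem sg_inv {a w : V} (ha : Q a = 0) (h1 : f a w = 0) : (sg hQ a w)⁻¹ = sg hQ a (-w) := by
  have h2 : f a (-w) = 0 := by rw [pol_neg_right hQ, h1, neg_zero]
  apply inv_eq_of_mul_eq_one_right
  rw [sg_add hQ ha h1 h2, add_neg_cancel, sg_zero hQ ha]

theorem sg_smul_self {a : V} (ha : Q a = 0) (c : F) : sg hQ a (c • a) = 1 := by
  have h1 : f a (c • a) = 0 := by rw [pol_smul_right hQ, pol_self_of hQ ha, mul_zero]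
  apply act.injective
  ext1 x
  rw [act_sg hQ ha h1, Q_smul' hQ, ha, pol_smul_right hQ, map_one]
  change _ = x
  rw [smul_smul]
  simp only [mul_zero, zero_mul, zero_smul, sub_zero]
  rw [mul_comm, add_sub_cancel_right]

theorem sg_smul_left {a w : V} (ha : Q a = 0) (c : F) (h : f a w = 0) :
    sg hQ (c • a) w = sg hQ a (c • w) := by
  have h1 : f (c • a) w = 0 := by rw [pol_smul_left hQ, h, mul_zero]
  have h2 : f a (c • w) = 0 := by rw [pol_smul_right hQ, h, mul_zero]
  have h3 : Q (c • a) = 0 := by rw [Q_smul' hQ, ha, mul_zero]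
  apply act.injective
  ext1 x
  rw [act_sg hQ h3 h1, act_sg hQ ha h2, Q_smul' hQ c w]
  simp only [pol_smul_right hQ]
  (module)

theorem sg_swap {a w : V} (ha : Q a = 0) (hw : Q w = 0) (h : f a w = 0) :
    sg hQ a w = sg hQ w (-a) := by
  have h1 : f w (-a) = 0 := by rw [pol_neg_right hQ, pol_comm', h, neg_zero]
  apply act.injective
  ext1 x
  rw [act_sg hQ ha h, act_sg hQ hw h1, Q_neg hQ, hw, ha, pol_neg_right hQ]
  (module)

theorem conj_sg {g : GL ι F} (hg : g ∈ Cfsg.isometryGroup F Q) {a w : V} (ha : Q a = 0) (haw : f a w = 0) :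
    g * sg hQ a w * g⁻¹ = sg hQ (act g a) (act g w) := by
  have h1 : Q (act g a) = 0 := by rw [mem_iso.1 hg, ha]
  have h2 : f (act g a) (act g w) = 0 := by rw [iso_polar hg, haw]
  apply act.injective
  ext1 x
  rw [map_mul, map_mul, LinearEquiv.mul_apply, LinearEquiv.mul_apply, act_sg hQ ha haw,
    act_sg hQ h1 h2, iso_inv_polar hg, iso_inv_polar hg, mem_iso.1 hg w]
  simp only [map_sub, map_add, map_smul, act_act_inv]

/-- The commutator of two Siegel elements with singular parameters. -/
theorem comm_sg {a b c d : V} (ha : Q a = 0) (hb : Q b = 0) (hc : Q c = 0) (hd : Q d = 0)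
    (hab : f a b = 0) (hcd : f c d = 0) (hac : f a c = 0) (had : f a d = 0) (hbd : f b d = 0) :
    ⁅sg hQ a b, sg hQ c d⁆ = sg hQ a ((- f b c) • d) := by
  have haa := pol_self_of hQ ha
  have hdd := pol_self_of hQ hd
  have hcc := pol_self_of hQ hc
  have hbb := pol_self_of hQ hb
  have hba : f b a = 0 := by rw [pol_comm']; exact hab
  have hdc : f d c = 0 := by rw [pol_comm']; exact hcd
  have hca : f c a = 0 := by rw [pol_comm']; exact hac
  have hda : f d a = 0 := by rw [pol_comm']; exact had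
  have hdb : f d b = 0 := by rw [pol_comm']; exact hbd
  have hcb : f c b = f b c := pol_comm' _ _
  have h1 : f a ((- f b c) • d) = 0 := by rw [pol_smul_right hQ, had, mul_zero]
  rw [commutatorElement_def, mul_inv_eq_iff_eq_mul, mul_inv_eq_iff_eq_mul]
  apply act.injective
  ext1 x
  simp only [map_mul, LinearEquiv.mul_apply, act_sg hQ ha hab, act_sg hQ hc hcd, act_sg hQ ha h1,
    Q_smul' hQ _ d, hb, hd]
  simp only [pol_add_left hQ, pol_sub_left hQ, pol_smul_left hQ, pol_smul_right hQ, haa, hdd, hcc, hbb,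
    hba, hdc, hca, hda, hdb, hac, hcd, had, hbd, hcb, hab]
  (module)

/-! ### The group generated by Siegel elements -/

/-- the group generated by all Siegel elements -/
def EG : Subgroup (GL ι F) :=
  Subgroup.closure {g | ∃ a w, Q a = 0 ∧ f a w = 0 ∧ g = sg hQ a w}

theorem sg_mem_EG {a w : V} (ha : Q a = 0) (haw : f a w = 0) : sg hQ a w ∈ EG hQ :=
  Subgroup.subset_closure ⟨a, w, ha, haw, rfl⟩

theorem EG_le_iso : EG hQ ≤ Cfsg.isometryGroup F Q := by
  rw [EG, Subgroup.closure_le]
  rintro _ ⟨a, w, -, -, rfl⟩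
  exact sg_mem_iso hQ a w

theorem EG_conj {g : GL ι F} (hg : g ∈ Cfsg.isometryGroup F Q) {e : GL ι F} (he : e ∈ EG hQ) :
    g * e * g⁻¹ ∈ EG hQ := by
  have h : EG hQ ≤ (EG hQ).comap (MulAut.conj g).toMonoidHom := by
    rw [EG, Subgroup.closure_le]
    rintro _ ⟨a, w, ha, haw, rfl⟩
    show g * sg hQ a w * g⁻¹ ∈ EG hQ
    rw [conj_sg hQ hg ha haw]
    apply sg_mem_EG
    · rw [mem_iso.1 hg, ha]
    · rw [iso_polar hg, haw]
  exact h he

/-! ### Reflections -/

/-- the underlying linear map of a reflection -/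
noncomputable def rfL (a : V) : V →ₗ[F] V where
  toFun x := x - (f x a / Q a) • a
  map_add' x y := by
    simp only [pol_add_left hQ, add_div]
    (module)
  map_smul' c x := by
    simp only [pol_smul_left hQ, RingHom.id_apply, mul_div_assoc]
    (module)

theorem rfL_apply (a x : V) : rfL hQ a x = x - (f x a / Q a) • a := rfl

theorem rfL_pres {a : V} (ha : Q a ≠ 0) (x : V) : Q (rfL hQ a x) = Q x := by
  rw [rfL_apply, Q_sub hQ, Q_smul' hQ, pol_smul_right hQ]
  field_simp
  ring

theorem exists_rf {a : V} (ha : Q a ≠ 0) : ∃ g : GL ι F, ∀ x, act g x = rfL hQ a x :=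
  exists_gl_of_iso (sform_of_quad hQ) _ (polar_of_pres _ (rfL_pres hQ ha))

open _root_.Classical in
/-- the reflection (trivial when the vector is singular) -/
noncomputable def rf (a : V) : GL ι F :=
  if h : Q a ≠ 0 then Classical.choose (exists_rf hQ h) else 1

theorem act_rf {a : V} (ha : Q a ≠ 0) (x : V) : act (rf hQ a) x = x - (f x a / Q a) • a := by
  rw [rf, dif_pos ha, Classical.choose_spec (exists_rf hQ ha) x, rfL_apply]

theorem rf_mem_iso (a : V) : rf hQ a ∈ Cfsg.isometryGroup F Q := by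
  rw [mem_iso]
  intro x
  by_cases h : Q a ≠ 0
  · rw [act_rf hQ h, ← rfL_apply hQ, rfL_pres hQ h]
  · rw [rf, dif_neg h, map_one]
    rfl

theorem conj_rf {g : GL ι F} (hg : g ∈ Cfsg.isometryGroup F Q) {a : V} (ha : Q a ≠ 0) :
    g * rf hQ a * g⁻¹ = rf hQ (act g a) := by
  have h1 : Q (act g a) ≠ 0 := by rwa [mem_iso.1 hg]
  apply act.injective
  ext1 x
  rw [map_mul, map_mul, LinearEquiv.mul_apply, LinearEquiv.mul_apply, act_rf hQ ha, act_rf hQ h1,
    iso_inv_polar hg, mem_iso.1 hg a]
  simp only [map_sub, map_smul, act_act_inv]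

theorem rf_comm {a b : V} (ha : Q a ≠ 0) (hb : Q b ≠ 0) (h : f a b = 0) :
    rf hQ a * rf hQ b = rf hQ b * rf hQ a := by
  have h' : f b a = 0 := by rw [pol_comm']; exact h
  apply act.injective
  ext1 x
  simp only [map_mul, LinearEquiv.mul_apply, act_rf hQ ha, act_rf hQ hb]
  simp only [pol_sub_left hQ, pol_smul_left hQ, h, h', mul_zero, sub_zero]
  (module)

end Cfsg.Agent.Lib.Geo
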