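import Mathlib
import Cfsg.Agent.Lib.Geo.OmegaSiegel

set_option autoImplicit false

/-! The commutator subgroup of the isometry group of a quadratic form is generated by Siegel
elements. -/

namespace Cfsg.Agent.Lib.Geo

open scoped MatrixGroups Matrix commutatorElement
open Module

/-- commutators of generators lie in a normalised subgroup: then so do all commutators -/
theorem comm_mem_of_gen {G : Type*} [Group G] (S : Set G) (N : Subgroup G)
    (hN : ∀ x ∈ Subgroup.closure S, ∀ e ∈ N, x * e * x⁻¹ ∈ N)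
    (hC : ∀ s ∈ S, ∀ t ∈ S, ⁅s, t⁆ ∈ N) :
    ∀ x ∈ Subgroup.closure S, ∀ y ∈ Subgroup.closure S, ⁅x, y⁆ ∈ N := by
  have step : ∀ y ∈ Subgroup.closure S, (∀ s ∈ S, ⁅s, y⁆ ∈ N) →
      ∀ x ∈ Subgroup.closure S, ⁅x, y⁆ ∈ N := by
    intro y hy h x hx
    induction hx using Subgroup.closure_induction with
    | mem s hs => exact h s hs
    | one => simp
    | mul a b ha hb ih1 ih2 =>
      have e : ⁅a * b, y⁆ = a * ⁅b, y⁆ * a⁻¹ * ⁅a, y⁆ := by
        simp only [commutatorElement_def]
        group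
      rw [e]
      exact N.mul_mem (hN a ha _ ih2) ih1
    | inv a ha ih =>
      have e : ⁅a⁻¹, y⁆ = a⁻¹ * ⁅a, y⁆⁻¹ * a⁻¹⁻¹ := by
        simp only [commutatorElement_def]
        group
      rw [e]
      exact hN _ (Subgroup.inv_mem _ ha) _ (N.inv_mem ih)
  have step2 : ∀ s ∈ S, ∀ y ∈ Subgroup.closure S, ⁅s, y⁆ ∈ N := by
    intro s hs y hy
    induction hy using Subgroup.closure_induction with
    | mem t ht => exact hC s hs t ht
    | one => simp
    | mul a b ha hb ih1 ih2 =>
      have e : ⁅s, a * b⁆ = ⁅s, a⁆ * (a * ⁅s, b⁆ * a⁻¹) := by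
        simp only [commutatorElement_def]
        group
      rw [e]
      exact N.mul_mem ih1 (hN a ha _ ih2)
    | inv a ha ih =>
      have e : ⁅s, a⁻¹⁆ = a⁻¹ * ⁅s, a⁆⁻¹ * a⁻¹⁻¹ := by
        simp only [commutatorElement_def]
        group
      rw [e]
      exact hN _ (Subgroup.inv_mem _ ha) _ (N.inv_mem ih)
  exact fun x hx y hy => step y hy (fun s hs => step2 s hs y hy) x hx

theorem comm_mem_of_conj {G : Type*} [Group G] {N : Subgroup G} {x x' y e : G} (he : e ∈ N)
    (hx : x = e * x') (hc : x' * y = y * x') (hy : y * e⁻¹ * y⁻¹ ∈ N) : ⁅x, y⁆ ∈ N := by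
  have h1 : ⁅x, y⁆ = e * (y * e⁻¹ * y⁻¹) := by
    rw [commutatorElement_def, hx]
    calc e * x' * y * (e * x')⁻¹ * y⁻¹ = e * (x' * y) * x'⁻¹ * e⁻¹ * y⁻¹ := by group
      _ = e * (y * x') * x'⁻¹ * e⁻¹ * y⁻¹ := by rw [hc]
      _ = _ := by group
  rw [h1]
  exact N.mul_mem he hy

variable {ι : Type} [Fintype ι] [DecidableEq ι] {F : Type*} [Field F]

local notation "V" => (ι → F)

variable {Q : (ι → F) → F} (hQ : Cfsg.Geo.IsNondegenerateQuadraticForm Q)

local notation "f" => QuadraticMap.polar Q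

variable [Finite F]

/-- the generators: reflections and Siegel elements -/
def GenS : Set (GL ι F) :=
  {g | (∃ a, Q a ≠ 0 ∧ g = rf hQ a) ∨ (∃ a w, Q a = 0 ∧ f a w = 0 ∧ g = sg hQ a w)}

theorem GenS_le_iso : Subgroup.closure (GenS hQ) ≤ Cfsg.isometryGroup F Q := by
  rw [Subgroup.closure_le]
  rintro _ (⟨a, -, rfl⟩ | ⟨a, w, -, -, rfl⟩)
  · exact rf_mem_iso hQ a
  · exact sg_mem_iso hQ a w

/-- every isometry is a product of reflections and Siegel elements -/
theorem iso_mem_closure (d : ℕ) : ∀ g ∈ Cfsg.isometryGroup F Q,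
    Fintype.card ι ≤ finrank F (fixS g) + d → g ∈ Subgroup.closure (GenS hQ) := by
  have hV : finrank F V = Fintype.card ι := by simp
  induction d with
  | zero =>
    intro g _ hd
    have : fixS g = ⊤ := by
      apply Submodule.eq_top_of_finrank_eq
      have := Submodule.finrank_le (fixS g)
      omega
    have hg1 : g = 1 := fixS_top (fun x => by rw [this]; trivial)
    rw [hg1]
    exact Subgroup.one_mem _
  | succ d ih =>
    intro g hg hd
    by_cases hg1 : g = 1
    · rw [hg1]
      exact Subgroup.one_mem _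
    have hgQ := mem_iso.1 hg
    have hgf := iso_polar hg
    -- a step: a generator that agrees with `g` on the fixed space and on a new vector
    have hstep : ∀ (τ : GL ι F) (x : V), τ ∈ Subgroup.closure (GenS hQ) → act τ x = act g x →
        act g x ≠ x → (∀ z, act g z = z → act τ z = z) → g ∈ Subgroup.closure (GenS hQ) := by
      intro τ x hτ hτx hxg hτfix
      have hτiso := GenS_le_iso hQ hτ
      have hg' : τ⁻¹ * g ∈ Cfsg.isometryGroup F Q :=
        Subgroup.mul_mem _ (Subgroup.inv_mem _ hτiso) hg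
      have hlt : fixS g < fixS (τ⁻¹ * g) := by
        refine lt_of_le_of_ne ?_ ?_
        · intro y hy
          rw [mem_fixS] at hy ⊢
          have h4 := hτfix y hy
          rw [map_mul, LinearEquiv.mul_apply, hy]
          rw [← h4, act_inv_act, h4]
        · intro he
          have h5 : x ∈ fixS (τ⁻¹ * g) := by
            rw [mem_fixS, map_mul, LinearEquiv.mul_apply, ← hτx, act_inv_act]
          rw [← he, mem_fixS] at h5
          exact hxg h5
      have hfr := Submodule.finrank_lt_finrank_of_lt hlt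
      have h1 := ih _ hg' (by omega)
      have h2 : g = τ * (τ⁻¹ * g) := by group
      rw [h2]
      exact Subgroup.mul_mem _ hτ h1
    by_cases hA : ∃ x, Q (act g x - x) ≠ 0
    · obtain ⟨x, hx⟩ := hA
      set a := act g x - x with ha
      have hQa : Q a = 2 * Q x - f (act g x) x := by
        rw [ha, Q_sub hQ, hgQ]
        ring
      have hfa : f (act g x) a = 2 * Q x - f (act g x) x := by
        rw [ha, pol_sub_right hQ, polar_self' hQ, hgQ]
      refine hstep (rf hQ a) x (Subgroup.subset_closure (Or.inl ⟨a, hx, rfl⟩)) ?_ ?_ ?_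
      · rw [act_rf hQ hx]
        have h4 : f x a = - Q a := by
          rw [hQa, ha, pol_sub_right hQ, polar_self' hQ, pol_comm']
          ring
        rw [h4, neg_div, div_self hx, ha]
        simp
      · intro h
        apply hx
        rw [ha, h, sub_self, Q_zero' hQ]
      · intro z hz
        rw [act_rf hQ hx]
        have h3 : f z a = 0 := by
          rw [ha, pol_sub_right hQ]
          have := hgf z x
          rw [hz] at this
          rw [this, sub_self]
        rw [h3, zero_div, zero_smul, sub_zero]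
    · push Not at hA
      obtain ⟨y, hy⟩ : ∃ y, act g y ≠ y := by
        by_contra hcon
        push Not at hcon
        exact hg1 (fixS_top fun x => mem_fixS.2 (hcon x))
      have hv0 : act g y - y ≠ 0 := sub_ne_zero.2 hy
      obtain ⟨x, hx⟩ := (sform_of_quad hQ).nd _ hv0
      set u := act g x - x with hu
      set v := act g y - y with hv
      set κ := f x v with hκ
      have hQu : Q u = 0 := hA x
      have hQv : Q v = 0 := hA y
      have hxu : f x u = 0 := by
        have h1 : act g x = x + u := by rw [hu]; abel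
        have h2 := hgQ x
        rw [h1, Q_add' (Q := Q), hQu] at h2
        linear_combination h2
      have hyv : f y v = 0 := by
        have h1 : act g y = y + v := by rw [hv]; abel
        have h2 := hgQ y
        rw [h1, Q_add' (Q := Q), hQv] at h2
        linear_combination h2
      have huv : f u v = 0 := by
        have h1 := hA (x + y)
        have h2 : act g (x + y) - (x + y) = u + v := by
          rw [map_add, hu, hv]
          abel
        rw [h2, Q_add' (Q := Q), hQu, hQv] at h1
        linear_combination h1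
      have hyu : f y u = - κ := by
        have h1 : act g (x + y) = (x + y) + (u + v) := by
          rw [map_add, hu, hv]
          abel
        have h2 := hgQ (x + y)
        have h3 : Q (u + v) = 0 := by
          rw [Q_add' (Q := Q), hQu, hQv, huv]
          ring
        rw [h1, Q_add' (Q := Q) (x + y), h3, pol_add_left hQ, pol_add_right hQ, pol_add_right hQ,
          hxu, hyv] at h2
        rw [hκ]
        linear_combination h2
      have hκ0 : κ ≠ 0 := hx
      have huv' : f u (-κ⁻¹ • v) = 0 := by rw [pol_smul_right hQ, huv, mul_zero]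
      have hQv' : Q (-κ⁻¹ • v) = 0 := by rw [Q_smul' hQ, hQv, mul_zero]
      have hT : ∀ z, act (sg hQ u (-κ⁻¹ • v)) z = z - (κ⁻¹ * f z u) • v + (κ⁻¹ * f z v) • u := by
        intro z
        rw [act_sg hQ hQu huv', hQv', pol_smul_right hQ]
        (module)
      refine hstep (sg hQ u (-κ⁻¹ • v)) x
        (Subgroup.subset_closure (Or.inr ⟨u, _, hQu, huv', rfl⟩)) ?_ ?_ ?_
      · rw [hT, hxu, ← hκ, inv_mul_cancel₀ hκ0, hu]
        simp
      · intro h
        have : u = 0 := by rw [hu, h, sub_self]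
        rw [this, pol_zero_right hQ] at hyu
        exact hκ0 (by linear_combination hyu)
      · intro z hz
        have h1 : ∀ w : V, f z (act g w - w) = 0 := by
          intro w
          have h2 := hA (z + w)
          have h3 : act g (z + w) - (z + w) = act g w - w := by
            rw [map_add, hz]
            abel
          have h4 := hgQ (z + w)
          have h5 : act g (z + w) = (z + w) + (act g w - w) := by
            rw [map_add, hz]
            abel
          rw [h5, Q_add' (Q := Q) (z + w), hA w, pol_add_left hQ] at h4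
          have h6 : f w (act g w - w) = 0 := by
            have h7 : act g w = w + (act g w - w) := by abel
            have h8 := hgQ w
            rw [h7, Q_add' (Q := Q), hA w] at h8
            simpa using h8
          rw [h6] at h4
          linear_combination h4
        rw [hT, h1 x, h1 y]
        simp

include hQ in
/-- one step: vectors with singular difference -/
theorem exists_EG_step {a a' : V} (h : Q a = Q a') (h0 : Q a ≠ 0) (h1 : f a a' = 2 * Q a) :
    ∃ k ∈ EG hQ, act k a = a' := by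
  by_cases hz : a = a'
  · exact ⟨1, Subgroup.one_mem _, by rw [map_one, ← hz]; rfl⟩
  set z := a - a' with hzd
  have hz0 : z ≠ 0 := sub_ne_zero.2 hz
  have hQz : Q z = 0 := by
    rw [hzd, Q_sub hQ, h1, ← h]
    ring
  have haz : f a z = 0 := by
    rw [hzd, pol_sub_right hQ, h1, polar_self' hQ, sub_self]
  set hf := sform_of_quad hQ with hhf
  obtain ⟨y, hy1, hy2⟩ := exists_sep (hf.lf_ne_zero hz0) (ψ := hf.lf a) (by
    rintro ⟨c, hc⟩
    have h2 : a = c • z := by
      apply hf.lf_injective
      rw [hc, hf.lf_smul]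
      rfl
    apply h0
    rw [h2, Q_smul' hQ, hQz, mul_zero])
  have hy1' : f y z = 0 := hy1
  have hy2' : f y a ≠ 0 := hy2
  have hyz : f z y = 0 := by rw [pol_comm']; exact hy1'
  have hzw : f z ((f y a)⁻¹ • y) = 0 := by rw [pol_smul_right hQ, hyz, mul_zero]
  refine ⟨sg hQ z ((f y a)⁻¹ • y), sg_mem_EG hQ hQz hzw, ?_⟩
  rw [act_sg_orth hQ hQz hzw haz, pol_smul_right hQ, pol_comm' a y, inv_mul_cancel₀ hy2', one_smul, hzd]
  abel

include hQ in
/-- the group generated by Siegel elements is transitive on vectors of a given non-zero value -/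
theorem exists_EG_trans [Fintype F] (hn : 9 ≤ Fintype.card ι) {a a' : V} (h : Q a = Q a') (h0 : Q a ≠ 0) :
    ∃ k ∈ EG hQ, act k a = a' := by
  set hf := sform_of_quad hQ with hhf
  have ha0 : a ≠ 0 := by
    rintro rfl
    exact h0 (Q_zero' hQ)
  have hind : ∀ {b b' : V}, Q b = Q b' → Q b = Q a → b ≠ 0 → (∀ c : F, b' ≠ c • b) →
      ∃ k ∈ EG hQ, act k b = b' := by
    intro b b' hb hba hb0 hbc
    obtain ⟨y, hy1, hy2⟩ := exists_two_values hQ hb0 hbc (2 * Q b) (2 * Q b)
    obtain ⟨c, hc, hc0⟩ := affine_Q hQ [hf.lf b, hf.lf b'] (by simp; omega) y (Q b)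
    have hc1 : f c b = 2 * Q b := by
      have := hc (hf.lf b) (by simp)
      simp only [SForm.lf_apply] at this
      rw [this, hy1]
    have hc2 : f c b' = 2 * Q b := by
      have := hc (hf.lf b') (by simp)
      simp only [SForm.lf_apply] at this
      rw [this, hy2]
    have hb' : Q b ≠ 0 := by rwa [hba]
    obtain ⟨k₁, hk₁, h1⟩ := exists_EG_step hQ (a := b) (a' := c) hc0.symm hb' (by rw [pol_comm']; exact hc1)
    obtain ⟨k₂, hk₂, h2⟩ := exists_EG_step hQ (a := c) (a' := b') (by rw [hc0, hb]) (by rwa [hc0])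
      (by rw [hc2, hc0])
    exact ⟨k₂ * k₁, Subgroup.mul_mem _ hk₂ hk₁, by rw [map_mul, LinearEquiv.mul_apply, h1, h2]⟩
  by_cases hp : ∀ c : F, a' ≠ c • a
  · exact hind h rfl ha0 hp
  push Not at hp
  obtain ⟨c, hc⟩ := hp
  have hc0 : c ≠ 0 := by
    rintro rfl
    apply h0
    rw [h, hc, zero_smul, Q_zero' hQ]
  -- an intermediate vector outside the line
  obtain ⟨p, hp, t, ht, -, -, hpt⟩ := exists_hyp_pair hQ (cutL [hf.lf a]) (by
    have := finrank_cutL [hf.lf a]
    simp only [List.length_cons, List.length_nil] at this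
    omega)
  rw [mem_cutL] at ht
  have hta : f t a = 0 := ht (hf.lf a) (by simp)
  have hat : f a t = 0 := by rw [pol_comm']; exact hta
  obtain ⟨b, hb, hb0⟩ := affine_Q hQ [hf.lf t] (by simp; omega) p (Q a)
  have hbt : f b t = 1 := by
    have := hb (hf.lf t) (by simp)
    simp only [SForm.lf_apply] at this
    rw [this, hpt]
  have hba : ∀ c : F, b ≠ c • a := by
    rintro c rfl
    rw [pol_smul_left hQ, hat, mul_zero] at hbt
    exact zero_ne_one hbt
  obtain ⟨k₁, hk₁, h1⟩ := hind (b' := b) hb0.symm rfl ha0 hba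
  have hb00 : b ≠ 0 := by
    rintro rfl
    exact hba 0 (by simp)
  obtain ⟨k₂, hk₂, h2⟩ := hind (b := b) (b' := a') (by rw [hb0, h]) hb0 hb00 (by
    intro c₁ hc₁
    have hc₁0 : c₁ ≠ 0 := by
      rintro rfl
      rw [zero_smul, hc] at hc₁
      exact (smul_ne_zero hc0 ha0) hc₁
    apply hba (c₁⁻¹ * c)
    rw [mul_smul, ← hc, hc₁, smul_smul, inv_mul_cancel₀ hc₁0, one_smul])
  exact ⟨k₂ * k₁, Subgroup.mul_mem _ hk₂ hk₁, by rw [map_mul, LinearEquiv.mul_apply, h1, h2]⟩

include hQ in
/-- reflections commute modulo the Siegel group -/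
theorem rf_comm_EG [Fintype F] (hn : 9 ≤ Fintype.card ι) {a b : V} (ha : Q a ≠ 0) (hb : Q b ≠ 0) :
    ⁅rf hQ a, rf hQ b⁆ ∈ EG hQ := by
  set hf := sform_of_quad hQ with hhf
  obtain ⟨a', ha', ha'0⟩ := affine_Q hQ [hf.lf b] (by simp; omega) 0 (Q a)
  have hab : f a' b = 0 := by
    have := ha' (hf.lf b) (by simp)
    simp only [SForm.lf_apply] at this
    rw [this, pol_zero_left hQ]
  have hQa' : Q a' ≠ 0 := by rwa [ha'0]
  obtain ⟨k, hk, hka⟩ := exists_EG_trans hQ hn ha'0 hQa'
  -- `k` maps `a'` to `a`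
  have hkiso := EG_le_iso hQ hk
  have h1 : rf hQ a = k * rf hQ a' * k⁻¹ := by
    rw [conj_rf hQ hkiso hQa', hka]
  refine comm_mem_of_conj (x' := rf hQ a') (e := k * (rf hQ a' * k⁻¹ * (rf hQ a')⁻¹)) ?_ ?_
    (rf_comm hQ hQa' hb hab) ?_
  · exact Subgroup.mul_mem _ hk (EG_conj hQ (rf_mem_iso hQ a') (Subgroup.inv_mem _ hk))
  · rw [h1]
    group
  · exact EG_conj hQ (rf_mem_iso hQ b) (Subgroup.inv_mem _
      (Subgroup.mul_mem _ hk (EG_conj hQ (rf_mem_iso hQ a') (Subgroup.inv_mem _ hk))))

/-- `Ω` as the commutator subgroup inside `GL`. -/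
theorem omegaGL_eq : Cfsg.Geo.omegaGL Q = ⁅Cfsg.isometryGroup F Q, Cfsg.isometryGroup F Q⁆ := by
  rw [Cfsg.Geo.omegaGL, Cfsg.Omega, commutator, Subgroup.map_commutator, ← MonoidHom.range_eq_map,
    Subgroup.range_subtype]

include hQ in
theorem omega_le_EG [Fintype F] (hn : 9 ≤ Fintype.card ι) : Cfsg.Geo.omegaGL Q ≤ EG hQ := by
  rw [omegaGL_eq, Subgroup.commutator_le]
  intro g₁ h₁ g₂ h₂
  have hV : finrank F V = Fintype.card ι := by simp
  have hall : ∀ g ∈ Cfsg.isometryGroup F Q, g ∈ Subgroup.closure (GenS hQ) := fun g hg =>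
    iso_mem_closure hQ (Fintype.card ι) g hg (by omega)
  refine comm_mem_of_gen (GenS hQ) (EG hQ) (fun x hx e he => EG_conj hQ (GenS_le_iso hQ hx) he) ?_ g₁
    (hall _ h₁) g₂ (hall _ h₂)
  have hG : ∀ s ∈ GenS hQ, s ∈ Cfsg.isometryGroup F Q := fun s hs =>
    GenS_le_iso hQ (Subgroup.subset_closure hs)
  rintro s hs t ht
  have hs' := hs
  have ht' := ht
  rcases hs with ⟨a, ha, rfl⟩ | ⟨a, w, ha, haw, rfl⟩
  · rcases ht with ⟨b, hb, rfl⟩ | ⟨b, w, hb, hbw, rfl⟩
    · exact rf_comm_EG hQ hn ha hb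
    · rw [commutatorElement_def]
      exact Subgroup.mul_mem _ (EG_conj hQ (hG _ hs') (sg_mem_EG hQ hb hbw))
        (Subgroup.inv_mem _ (sg_mem_EG hQ hb hbw))
  · rw [commutatorElement_def]
    rw [show sg hQ a w * t * (sg hQ a w)⁻¹ * t⁻¹ = sg hQ a w * (t * (sg hQ a w)⁻¹ * t⁻¹) by group]
    exact Subgroup.mul_mem _ (sg_mem_EG hQ ha haw)
      (EG_conj hQ (hG _ ht') (Subgroup.inv_mem _ (sg_mem_EG hQ ha haw)))

include hQ in
/-- Siegel elements with singular parameters are commutators. -/
theorem sg_mem_omega_singular [Fintype F] (hn : 9 ≤ Fintype.card ι) {a w : V} (ha : Q a = 0) (hw : Q w = 0)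
    (haw : f a w = 0) : sg hQ a w ∈ Cfsg.Geo.omegaGL Q := by
  set hf := sform_of_quad hQ with hhf
  obtain ⟨s, hs, t, ht, hQs, hQt, hst⟩ := exists_hyp_pair hQ (cutL [hf.lf a, hf.lf w]) (by
    have := finrank_cutL [hf.lf a, hf.lf w]
    simp only [List.length_cons, List.length_nil] at this
    omega)
  rw [mem_cutL] at hs ht
  have hsa : f s a = 0 := hs (hf.lf a) (by simp)
  have hsw : f s w = 0 := hs (hf.lf w) (by simp)
  have hta : f t a = 0 := ht (hf.lf a) (by simp)
  have htw : f t w = 0 := ht (hf.lf w) (by simp)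
  have hQt' : Q (-t) = 0 := by rw [Q_neg hQ, hQt]
  have h1 := comm_sg hQ (a := a) (b := s) (c := -t) (d := w) ha hQs hQt' hw
    (by rw [pol_comm']; exact hsa) (by rw [pol_neg_left hQ, htw, neg_zero])
    (by rw [pol_neg_right hQ, pol_comm', hta, neg_zero]) haw hsw
  rw [pol_neg_right hQ, hst, neg_neg, one_smul] at h1
  rw [← h1, omegaGL_eq]
  exact Subgroup.commutator_mem_commutator (sg_mem_iso hQ _ _) (sg_mem_iso hQ _ _)

include hQ in
/-- Siegel elements lie in `Ω`. -/
theorem sg_mem_omega [Fintype F] (hn : 9 ≤ Fintype.card ι) {a w : V} (ha : Q a = 0)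
    (haw : f a w = 0) : sg hQ a w ∈ Cfsg.Geo.omegaGL Q := by
  set hf := sform_of_quad hQ with hhf
  by_cases hw : Q w = 0
  · exact sg_mem_omega_singular hQ hn ha hw haw
  by_cases ha0 : a = 0
  · subst ha0
    have : sg hQ (0 : V) w = 1 := by
      apply act.injective
      ext1 x
      rw [act_sg hQ (Q_zero' hQ) (pol_zero_left hQ w), pol_zero_right hQ, map_one]
      simp
    rw [this]
    exact Subgroup.one_mem _
  have hwa : ∀ c : F, w ≠ c • a := by
    rintro c rfl
    apply hw
    rw [Q_smul' hQ, ha, mul_zero]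
  obtain ⟨y, hy1, hy2⟩ := exists_two_values hQ ha0 hwa 0 (Q w)
  obtain ⟨p, hp, hQp⟩ := affine_Q hQ [hf.lf a, hf.lf w] (by simp; omega) y 0
  have hpa : f p a = 0 := by
    have := hp (hf.lf a) (by simp)
    simp only [SForm.lf_apply] at this
    rw [this, hy1]
  have hpw : f p w = Q w := by
    have := hp (hf.lf w) (by simp)
    simp only [SForm.lf_apply] at this
    rw [this, hy2]
  have hap : f a p = 0 := by rw [pol_comm']; exact hpa
  have hQq : Q (w - p) = 0 := by
    rw [Q_sub hQ, hQp, pol_comm', hpw]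
    ring
  have haq : f a (w - p) = 0 := by rw [pol_sub_right hQ, haw, hap, sub_zero]
  have e : w = p + (w - p) := by abel
  rw [e, ← sg_add hQ ha hap haq]
  exact Subgroup.mul_mem _ (sg_mem_omega_singular hQ hn ha hQp hap)
    (sg_mem_omega_singular hQ hn ha hQq haq)

include hQ in
theorem EG_le_omega [Fintype F] (hn : 9 ≤ Fintype.card ι) : EG hQ ≤ Cfsg.Geo.omegaGL Q := by
  rw [EG, Subgroup.closure_le]
  rintro _ ⟨a, w, ha, haw, rfl⟩
  exact sg_mem_omega hQ hn ha haw

theorem omega_eq_EG [Fintype F] (hn : 9 ≤ Fintype.card ι) : Cfsg.Geo.omegaGL Q = EG hQ :=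
  le_antisymm (omega_le_EG hQ hn) (EG_le_omega hQ hn)

end Cfsg.Agent.Lib.Geo
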