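import Mathlib

set_option autoImplicit false

/-! Stabilizer of a uniform partition of a finite set (imprimitive wreath product). -/

namespace Cfsg.Agent.Lib.Geo

open Equiv Equiv.Perm

variable {Ω : Type*} {ι : Type*}

/-- The stabilizer of the partition into the fibres of `f`. -/
def partStab (f : Ω → ι) : Subgroup (Equiv.Perm Ω) where
  carrier := {g | ∀ x y : Ω, f x = f y ↔ f (g x) = f (g y)}
  one_mem' := fun _ _ => Iff.rfl
  mul_mem' := by
    intro g h hg hh x y
    simp only [Set.mem_setOf_eq] at hg hh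
    rw [hh x y, hg (h x) (h y)]
    rfl
  inv_mem' := by
    intro g hg x y
    simp only [Set.mem_setOf_eq] at hg
    have := hg (g⁻¹ x) (g⁻¹ y)
    simpa using this.symm

theorem mem_partStab {f : Ω → ι} {g : Equiv.Perm Ω} :
    g ∈ partStab f ↔ ∀ x y : Ω, f x = f y ↔ f (g x) = f (g y) := Iff.rfl

theorem closure_eq_partStab (f : Ω → ι) :
    Subgroup.closure {g : Equiv.Perm Ω | ∀ x y : Ω, f x = f y ↔ f (g x) = f (g y)} = partStab f :=
  Subgroup.closure_eq (partStab f)

/-- Coordinates for a uniform partition. -/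
theorem exists_coord [Finite Ω] {b : ℕ} (a : ℕ) (f : Ω → Fin b)
    (hf : ∀ i : Fin b, Nat.card {x : Ω // f x = i} = a) :
    ∃ E : Ω ≃ Fin b × Fin a, ∀ x, (E x).1 = f x := by
  classical
  let e : (i : Fin b) → {x : Ω // f x = i} ≃ Fin a := fun i => Finite.equivFinOfCardEq (hf i)
  refine ⟨(Equiv.sigmaFiberEquiv f).symm.trans
    ((Equiv.sigmaCongrRight e).trans (Equiv.sigmaEquivProd _ _)), fun x => ?_⟩
  rfl

/-- A permutation of the labels lifts to the partition stabilizer, acting as the identity on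
the fibres over the fixed points of `p`. -/
theorem exists_lift [Finite Ω] {b : ℕ} (a : ℕ) (f : Ω → Fin b)
    (hf : ∀ i : Fin b, Nat.card {x : Ω // f x = i} = a) (p : Equiv.Perm (Fin b)) :
    ∃ h ∈ partStab f, (∀ x, f (h x) = p (f x)) ∧ (∀ x, p (f x) = f x → h x = x) := by
  classical
  obtain ⟨E, hE⟩ := exists_coord a f hf
  let h : Equiv.Perm Ω := E.trans ((Equiv.prodCongr p (Equiv.refl _)).trans E.symm)
  have hh : ∀ x, f (h x) = p (f x) := by
    intro x
    rw [← hE (h x), ← hE x]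
    simp [h]
  refine ⟨h, ?_, hh, ?_⟩
  · intro x y
    rw [hh, hh]
    exact p.apply_eq_iff_eq.symm
  · intro x hx
    apply E.injective
    apply Prod.ext
    · rw [hE, hE, hh, hx]
    · simp [h]

theorem swap_mem_partStab [DecidableEq Ω] {f : Ω → ι} {x y : Ω} (h : f x = f y) :
    Equiv.swap x y ∈ partStab f := by
  have key : ∀ z, f (Equiv.swap x y z) = f z := by
    intro z
    by_cases h1 : z = x
    · subst h1; simp [h]
    · by_cases h2 : z = y
      · subst h2; simp [h]
      · rw [Equiv.swap_apply_of_ne_of_ne h1 h2]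
  intro u v
  rw [key, key]

/-- An element outside the stabilizer, or its inverse, separates two points of a fibre. -/
theorem exists_separated {f : Ω → ι} {g : Equiv.Perm Ω} (hg : g ∉ partStab f) :
    ∃ g' : Equiv.Perm Ω, (g' = g ∨ g' = g⁻¹) ∧ ∃ x y, x ≠ y ∧ f x = f y ∧ f (g' x) ≠ f (g' y) := by
  rw [mem_partStab] at hg
  push Not at hg
  obtain ⟨x, y, hxy⟩ := hg
  rcases hxy with ⟨h1, h2⟩ | ⟨h1, h2⟩
  · refine ⟨g, Or.inl rfl, x, y, ?_, h1, h2⟩
    rintro rfl
    exact h2 rfl
  · refine ⟨g⁻¹, Or.inr rfl, g x, g y, ?_, h2, ?_⟩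
    · intro h
      exact h1 (by rw [g.injective h])
    · simpa using h1

/-- Points witnessing that a uniform partition with `a, b ≥ 2` is nontrivial. -/
theorem exists_points [Finite Ω] {b : ℕ} (a : ℕ) (ha : 2 ≤ a) (hb : 2 ≤ b) (f : Ω → Fin b)
    (hf : ∀ i : Fin b, Nat.card {x : Ω // f x = i} = a) :
    ∃ x y z : Ω, x ≠ y ∧ f x = f y ∧ f x ≠ f z := by
  let i0' : Fin b := ⟨0, by omega⟩
  let i1' : Fin b := ⟨1, by omega⟩
  have hi : i0' ≠ i1' := by simp [i0', i1', Fin.ext_iff]
  have hnt : Nontrivial {x : Ω // f x = i0'} := by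
    rw [← Finite.one_lt_card_iff_nontrivial, hf]; omega
  obtain ⟨⟨x, hx⟩, ⟨y, hy⟩, hxy⟩ := exists_pair_ne {x : Ω // f x = i0'}
  have hne : Nonempty {x : Ω // f x = i1'} := by
    have : 0 < Nat.card {x : Ω // f x = i1'} := by rw [hf]; omega
    exact (Nat.card_pos_iff.1 this).1
  obtain ⟨⟨z, hz⟩⟩ := hne
  refine ⟨x, y, z, fun h => hxy (Subtype.ext h), hx.trans hy.symm, ?_⟩
  rw [hx, hz]; exact hi

theorem partStab_ne_top [DecidableEq Ω] [Finite Ω] {b : ℕ} (a : ℕ) (ha : 2 ≤ a) (hb : 2 ≤ b) (f : Ω → Fin b)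
    (hf : ∀ i : Fin b, Nat.card {x : Ω // f x = i} = a) : partStab f ≠ ⊤ := by
  obtain ⟨x, y, z, hxy, hfxy, hfxz⟩ := exists_points a ha hb f hf
  intro htop
  have hmem : Equiv.swap y z ∈ partStab f := by rw [htop]; trivial
  have hyz : y ≠ z := by
    rintro rfl; exact hfxz hfxy
  have hxz : x ≠ z := by
    rintro rfl; exact hfxz rfl
  have := (hmem x y).1 hfxy
  rw [Equiv.swap_apply_of_ne_of_ne hxy hxz, Equiv.swap_apply_left] at this
  exact hfxz this

/-- A subgroup containing all swaps with a fixed point contains everything. -/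
theorem eq_top_of_swaps [DecidableEq Ω] [Finite Ω] (K : Subgroup (Equiv.Perm Ω)) (u : Ω)
    (h : ∀ z, z ≠ u → Equiv.swap u z ∈ K) : K = ⊤ := by
  rw [eq_top_iff, ← Equiv.Perm.closure_isSwap, Subgroup.closure_le]
  rintro σ ⟨p, q, hpq, rfl⟩
  by_cases hp : p = u
  · subst hp; exact h q hpq.symm
  by_cases hq : q = u
  · subst hq; rw [Equiv.swap_comm]; exact h p hp
  have h1 : Equiv.swap p q = Equiv.swap u p * Equiv.swap u q * (Equiv.swap u p)⁻¹ := by
    have := Equiv.swap_apply_apply (Equiv.swap u p) u q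
    rw [Equiv.swap_apply_left, Equiv.swap_apply_of_ne_of_ne hq (Ne.symm hpq)] at this
    exact this
  rw [h1]
  exact K.mul_mem (K.mul_mem (h p hp) (h q hq)) (K.inv_mem (h p hp))

/-- Maximality of the partition stabilizer in the symmetric group. -/
theorem isCoatom_partStab [DecidableEq Ω] [Finite Ω] {b : ℕ} (a : ℕ) (ha : 2 ≤ a) (hb : 2 ≤ b)
    (f : Ω → Fin b) (hf : ∀ i : Fin b, Nat.card {x : Ω // f x = i} = a) :
    IsCoatom (partStab f) := by
  refine ⟨partStab_ne_top a ha hb f hf, fun K hK => ?_⟩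
  obtain ⟨g, hgK, hgW⟩ := SetLike.exists_of_lt hK
  obtain ⟨g', hg', x, y, hxy, hfxy, hsep⟩ := exists_separated hgW
  have hg'K : g' ∈ K := by
    rcases hg' with rfl | rfl
    · exact hgK
    · exact K.inv_mem hgK
  set u := g' x with hu
  set v := g' y with hv
  have hsw : Equiv.swap u v ∈ K := by
    rw [hu, hv, Equiv.swap_apply_apply]
    exact K.mul_mem (K.mul_mem hg'K (hK.le (swap_mem_partStab hfxy))) (K.inv_mem hg'K)
  refine eq_top_of_swaps K u fun z hz => ?_
  by_cases hfz : f z = f u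
  · exact hK.le (swap_mem_partStab hfz.symm)
  obtain ⟨h, hhW, hh1, hh2⟩ := exists_lift a f hf (Equiv.swap (f v) (f z))
  have hhu : h u = u := by
    apply hh2
    exact Equiv.swap_apply_of_ne_of_ne hsep (Ne.symm hfz)
  have hhv : f (h v) = f z := by
    rw [hh1, Equiv.swap_apply_left]
  have hs2 : Equiv.swap u (h v) ∈ K := by
    have := Equiv.swap_apply_apply h u v
    rw [hhu] at this
    rw [this]
    exact K.mul_mem (K.mul_mem (hK.le hhW) hsw) (K.inv_mem (hK.le hhW))
  by_cases hz2 : h v = z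
  · rwa [hz2] at hs2
  · have hne : u ≠ h v := by
      intro h'
      exact hfz (by rw [← hhv, ← h'])
    have h1 : Equiv.swap u z = Equiv.swap (h v) z * Equiv.swap u (h v) * (Equiv.swap (h v) z)⁻¹ := by
      have := Equiv.swap_apply_apply (Equiv.swap (h v) z) u (h v)
      rw [Equiv.swap_apply_left, Equiv.swap_apply_of_ne_of_ne hne (Ne.symm hz)] at this
      exact this
    rw [h1]
    have h3 : Equiv.swap (h v) z ∈ K := hK.le (swap_mem_partStab hhv)
    exact K.mul_mem (K.mul_mem h3 hs2) (K.inv_mem h3)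

end Cfsg.Agent.Lib.Geo
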