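import Mathlib

/-!
Orbits of Sylow subgroups in transitive actions: if `p ^ e` divides the degree then it divides the
size of every orbit of a Sylow `p`-subgroup.
-/

set_option autoImplicit false

namespace Cfsg.Agent.Lib.Geo

open MulAction

variable {G Ω : Type*} [Group G] [Finite G] [MulAction G Ω]

theorem dvd_ncard_orbit_sylow [IsPretransitive G Ω] {p e : ℕ} [hp : Fact p.Prime]
    (P : Sylow p G) (a : Ω) (h : p ^ e ∣ Nat.card Ω) :
    p ^ e ∣ (orbit (P : Subgroup G) a).ncard := by
  set H := stabilizer G a with hH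
  have h1 : (orbit (P : Subgroup G) a).ncard = H.relIndex P := by
    rw [← index_stabilizer, Subgroup.relIndex]
    congr 1
  have h2 : H.index = Nat.card Ω := index_stabilizer_of_transitive G a
  have h3 : (H ⊓ P).relIndex H * H.index = (H ⊓ P).index :=
    Subgroup.relIndex_mul_index inf_le_left
  have h4 : (H ⊓ P).relIndex P * (P : Subgroup G).index = (H ⊓ P).index :=
    Subgroup.relIndex_mul_index inf_le_right
  rw [Subgroup.inf_relIndex_right] at h4
  have h5 : p ^ e ∣ H.relIndex P * (P : Subgroup G).index := by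
    rw [h4, ← h3]
    exact dvd_mul_of_dvd_right (h2 ▸ h) _
  rw [h1]
  exact (hp.1.coprime_pow_of_not_dvd P.not_dvd_index).symm.dvd_of_dvd_mul_right h5

/-- An orbit of a `p`-group has `p`-power size. -/
theorem exists_ncard_orbit_eq_pow {P : Type*} [Group P] [Finite P] [MulAction P Ω] {p : ℕ}
    [hp : Fact p.Prime] (hP : IsPGroup p P) (a : Ω) :
    ∃ j, (orbit P a).ncard = p ^ j := by
  rw [← index_stabilizer]
  exact hP.index _

end Cfsg.Agent.Lib.Geo
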